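import Cfsg.Agent.LAE65.Normal.Family
import Cfsg.Agent.LAE62.ExcFrame

/-!
An arbitrary block lies in or centralises a subnormal block, given its action on the module.
-/

set_option autoImplicit false
set_option linter.style.haveILetI false
set_option linter.unusedSectionVars false
set_option maxHeartbeats 800000

open Subgroup Cfsg
open scoped commutatorElement MatrixGroups Pointwise

namespace Cfsg.Agent.LAE65.Normal

open Block
open Cfsg.Agent.PushUp62 (centMod)

variable {G : Type*} [Group G] [Finite G] {p : ℕ} [hp : Fact p.Prime] {E F : Subgroup G}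
  {T U : Sylow p G}

/-- `[V, E]`. -/
local notation "𝐗" E => ⁅omegaOneCenter p (pCore p G), (E : Subgroup G)⁆

/-- An element with square acting trivially on an irreducible abelian section is a sign there. -/
theorem sign_of_irr {E A B : Subgroup G} (hirr : Pair.Irr E A B) (hBA : B ≤ A)
    (hab : ⁅A, A⁆ ≤ B) {f : G} (hfA : f ∈ normalizer (A : Set G)) (hfB : f ∈ normalizer (B : Set G))
    (hAB : A ≤ normalizer (B : Set G))
    (hEA : E ≤ normalizer (A : Set G)) (hEB : E ≤ normalizer (B : Set G))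
    (hcomm : ∀ e ∈ E, ∀ a ∈ A, ⁅⁅e, f⁆, a⁆ ∈ B) (hf2 : ∀ a ∈ A, ⁅f * f, a⁆ ∈ B) :
    (∀ a ∈ A, ⁅f, a⁆ ∈ B) ∨ ∀ a ∈ A, f * a * f⁻¹ * a ∈ B := by
  let K : Subgroup G :=
    { carrier := {a | a ∈ A ∧ ⁅f, a⁆ ∈ B}
      one_mem' := ⟨A.one_mem, by rw [commutatorElement_one_right]; exact B.one_mem⟩
      mul_mem' := fun {a b} ha hb => ⟨A.mul_mem ha.1 hb.1, by
        rw [PushUp62.commutator_mul_right]
        exact B.mul_mem ha.2 ((mem_normalizer_iff.1 (hAB ha.1) _).1 hb.2)⟩
      inv_mem' := fun {a} ha => ⟨A.inv_mem ha.1, by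
        rw [show ⁅f, a⁻¹⁆ = a⁻¹ * ⁅f, a⁆⁻¹ * a by simp only [commutatorElement_def]; group]
        simpa using (mem_normalizer_iff.1 (hAB (A.inv_mem ha.1)) _).1 (B.inv_mem ha.2)⟩ }
  have hBK : B ≤ K := fun b hb => ⟨hBA hb, by
    rw [commutatorElement_def]
    exact B.mul_mem ((mem_normalizer_iff.1 hfB b).1 hb) (B.inv_mem hb)⟩
  have hfc : ∀ {a}, a ∈ A → ⁅f, a⁆ ∈ A := fun {a} ha => by
    rw [commutatorElement_def]
    exact A.mul_mem ((mem_normalizer_iff.1 hfA a).1 ha) (A.inv_mem ha)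
  have hEK : E ≤ normalizer (K : Set G) := fun e he => LocalEven62.mem_normalizer_of_conj_mem fun a ha => by
    refine ⟨(mem_normalizer_iff.1 (hEA he) a).1 ha.1, ?_⟩
    set c := ⁅f, e⁆ with hc
    have hce : c = ⁅e, f⁆⁻¹ := by rw [hc, commutatorElement_inv]
    have hcf : f * e = c * (e * f) := by rw [hc, commutatorElement_def]; group
    have hca : ∀ y ∈ A, ⁅c, y⁆ ∈ B := fun y hy => by
      have h := hcomm e he
      have hmem : ⁅e, f⁆ ∈ centMod A B := by
        refine ⟨?_, h⟩
        rw [commutatorElement_def]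
        exact mul_mem (mul_mem (mul_mem (hEB he) hfB) (inv_mem (hEB he))) (inv_mem hfB)
      exact hce ▸ (inv_mem hmem : ⁅e, f⁆⁻¹ ∈ centMod A B).2 y hy
    have hy : e * (f * a * f⁻¹) * e⁻¹ ∈ A :=
      (mem_normalizer_iff.1 (hEA he) _).1 ((mem_normalizer_iff.1 hfA a).1 ha.1)
    have e1 : ⁅f, e * a * e⁻¹⁆ = ⁅c, e * (f * a * f⁻¹) * e⁻¹⁆ * (e * ⁅f, a⁆ * e⁻¹) := by
      calc ⁅f, e * a * e⁻¹⁆ = (f * e) * a * (f * e)⁻¹ * (e * a * e⁻¹)⁻¹ := by
            simp only [commutatorElement_def]; group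
        _ = (c * (e * f)) * a * (c * (e * f))⁻¹ * (e * a * e⁻¹)⁻¹ := by rw [hcf]
        _ = _ := by simp only [commutatorElement_def]; group
    rw [e1]
    exact B.mul_mem (hca _ hy) ((mem_normalizer_iff.1 (hEB he) _).1 ha.2)
  rcases hirr K hBK (fun a ha => ha.1) hEK with h | h
  · right
    intro a ha
    have hfa := (mem_normalizer_iff.1 hfA a).1 ha
    have hy : f * a * f⁻¹ * a ∈ A := A.mul_mem hfa ha
    suffices f * a * f⁻¹ * a ∈ K by rw [h] at this; exact this
    refine ⟨hy, ?_⟩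
    rw [PushUp62.commutator_mul_right]
    have e1 : ⁅f, f * a * f⁻¹⁆ = ⁅f * f, a⁆ * ⁅f, a⁆⁻¹ := by simp only [commutatorElement_def]; group
    rw [e1, show ⁅f * f, a⁆ * ⁅f, a⁆⁻¹ * (f * a * f⁻¹ * ⁅f, a⁆ * (f * a * f⁻¹)⁻¹) =
      ⁅f * f, a⁆ * ⁅⁅f, a⁆⁻¹, f * a * f⁻¹⁆ by simp only [commutatorElement_def]; group]
    exact B.mul_mem (hf2 a ha) (hab (commutator_mem_commutator (A.inv_mem (hfc ha)) hfa))
  · left
    intro a ha
    exact (h.ge ha : a ∈ K).2

/-- What is needed of an arbitrary block with small quotient. -/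
structure SmallFacts (p : ℕ) (F : Subgroup G) : Prop where
  sq : p = 3 → ∀ f ∈ F, f * f ∈ ⁅F, F⁆
  core : pCoreOf p F = Pair.blockModule p F ∨ (Pair.Exceptional p F ∧
    ∃ c ∈ ⁅F, F⁆, ∀ u ∈ pCoreOf p F, c * u * c⁻¹ * u ∈ omegaOneCenter p (pCoreOf p F))

variable (hG : centralizer (pCore p G : Set G) ≤ pCore p G)

include hG in
theorem perfect_or_small (hF : IsBaumannBlock p (U : Subgroup G) F) :
    ⁅F, F⁆ = F ∨ SmallFacts p F := by
  classical
  rcases hF.2.2.2.2 with ⟨K, _, _, n, hn, hiso, hact, halt⟩ | ⟨hp2, m, hiso, hact, hq⟩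
  · by_cases hK : 4 ≤ Fintype.card K
    · exact Or.inl (Pair.perfect_of_quotient hF (Pair.isPerfect_map_eq_top (Pair.isQuasisimple_of_sl hK hiso)))
    right
    have h1 : 1 < Fintype.card K := Fintype.one_lt_card
    have hn0 : n ≠ 0 := fun h => by rw [h, pow_zero] at hn; omega
    have hle : p ≤ Fintype.card K := hn ▸ Nat.le_self_pow hn0 p
    have hp2 := hp.out.two_le
    have hn1 : n = 1 := by
      by_contra h
      have : p ^ 2 ≤ Fintype.card K := hn ▸ Nat.pow_le_pow_right hp.out.pos (by omega)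
      nlinarith
    have hp23 : p = 2 ∨ p = 3 := by omega
    have hKp : Fintype.card K = p := by rw [hn, hn1, pow_one]
    obtain ⟨sW⟩ := Pair.nonempty_sec_of_sl2 hF hKp hp23 hiso hact fun q hq u hu =>
      Pair.triv_omega hF hq hu _
    have hcomm : ∀ (S : Subgroup G) (B : Subgroup G) (s : Pair.Sec p F (pCoreOf p F) S B), p = 3 →
        ∀ N, Pair.InR p N → N * N = -1 → ∃ c ∈ ⁅F, F⁆, s.rep c = -1 := by
      intro S B s h3 N hN hNN
      subst h3
      obtain ⟨D, hD, hDN⟩ := Pair.three_anti N hN hNN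
      obtain ⟨f, hf, rfl⟩ := s.rep_surj N hN
      obtain ⟨d, hd, rfl⟩ := s.rep_surj D hD
      refine ⟨⁅d, f⁆, commutator_mem_commutator hd hf, ?_⟩
      have hc : ⁅d, f⁆ ∈ F := mul_mem (mul_mem (mul_mem hd hf) (inv_mem hd)) (inv_mem hf)
      have hfd := F.mul_mem hf hd
      have hmul : ∀ {a b}, a ∈ F → b ∈ F → s.rep (a * b) = s.rep a * s.rep b := fun {a b} ha hb => by
        rw [← s.mat_eq_rep (F.mul_mem ha hb), s.mat_mul (s.normA ha) (s.E_le_normB ha) (s.normA hb)
          (s.E_le_normB hb), s.mat_eq_rep ha, s.mat_eq_rep hb]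
      have h1 : s.rep ⁅d, f⁆ * (s.rep f * s.rep d) = s.rep d * s.rep f := by
        rw [← hmul hf hd, ← hmul hc hfd, ← hmul hd hf]; congr 1; rw [commutatorElement_def]; group
      rw [hDN] at h1
      have hinv : (s.rep f * s.rep d) * s.rep (f * d)⁻¹ = 1 := by
        rw [← hmul hf hd, ← hmul hfd (F.inv_mem hfd), mul_inv_cancel, ← s.mat_eq_rep F.one_mem, s.mat_one]
      calc s.rep ⁅d, f⁆ = s.rep ⁅d, f⁆ * ((s.rep f * s.rep d) * s.rep (f * d)⁻¹) := by rw [hinv, mul_one]
        _ = -((s.rep f * s.rep d) * s.rep (f * d)⁻¹) := by rw [← mul_assoc, h1, neg_mul]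
        _ = -1 := by rw [hinv]
    refine ⟨fun h3 f hf => ?_, ?_⟩
    · subst h3
      have hQ : pCoreOf 3 F ≤ ⁅F, F⁆ := by
        conv_lhs => rw [← hF.2.2.1]
        exact commutator_mono (Pair.core_le F) le_rfl
      have hff := F.mul_mem hf hf
      have hrep : sW.rep (f * f) = sW.rep f * sW.rep f := by
        rw [← sW.mat_eq_rep hff, sW.mat_mul (sW.normA hf) (sW.E_le_normB hf) (sW.normA hf) (sW.E_le_normB hf),
          sW.mat_eq_rep hf]
      rcases Pair.three_four _ (sW.rep_mem hf) with h | h | h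
      · exact hQ ((sW.rep_ker hff).1 (by rw [hrep, h, one_mul]))
      · exact hQ ((sW.rep_ker hff).1 (by rw [hrep, h, neg_mul_neg, one_mul]))
      · obtain ⟨c, hc, hcr⟩ := hcomm _ _ sW rfl _ (sW.rep_mem hf) h
        have hcF : c ∈ F := (commutator_le.2 fun a ha b hb =>
          mul_mem (mul_mem (mul_mem ha hb) (inv_mem ha)) (inv_mem hb) : ⁅F, F⁆ ≤ F) hc
        have hk : c * (f * f) ∈ pCoreOf 3 F := by
          refine (sW.rep_ker (F.mul_mem hcF hff)).1 ?_
          rw [← sW.mat_eq_rep (F.mul_mem hcF hff), sW.mat_mul (sW.normA hcF) (sW.E_le_normB hcF)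
            (sW.normA hff) (sW.E_le_normB hff), sW.mat_eq_rep hcF, sW.mat_eq_rep hff, hrep, hcr, h,
            neg_mul_neg, one_mul]
        have := mul_mem (inv_mem hc) (hQ hk)
        rwa [inv_mul_cancel_left] at this
    · rcases halt with h | ⟨h3, hactQ, hder, -, -, -, -⟩
      · left
        refine le_antisymm ?_ (((moduleFacts hG hF).le_omega).trans (omegaOneCenter_le _))
        conv_lhs => rw [← hF.2.2.1, h]
        exact (moduleFacts hG hF).eq.le
      rcases Pair.core_cases hG hF with h | h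
      · exact Or.inl h
      refine Or.inr ⟨h, ?_⟩
      obtain ⟨sQ⟩ := Pair.nonempty_sec_of_sl2 hF hKp hp23 hiso hactQ fun q hq u hu => by
        have := (hder.le.trans inf_le_left) (commutator_mem_commutator hq hu)
        rwa [commutatorElement_def] at this
      subst h3
      obtain ⟨N, hN, hNN⟩ := Pair.three_exists_sq
      obtain ⟨c, hc, hcr⟩ := hcomm _ _ sQ rfl N hN hNN
      have hcF : c ∈ F := (commutator_le.2 fun a ha b hb =>
        mul_mem (mul_mem (mul_mem ha hb) (inv_mem ha)) (inv_mem hb) : ⁅F, F⁆ ≤ F) hc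
      exact ⟨c, hc, (sQ.mat_eq_neg_iff (sQ.normA hcF) (sQ.E_le_normB hcF)).1 (by rw [sQ.mat_eq_rep hcF, hcr])⟩
  · by_cases hm : 2 ≤ m
    · exact Or.inl (Pair.perfect_of_quotient hF (Pair.isPerfect_map_eq_top (Pair.isQuasisimple_of_alt hm hiso)))
    refine Or.inr ⟨fun h3 => absurd (hp2.symm.trans h3) (by norm_num), Or.inl ?_⟩
    refine le_antisymm ?_ (((moduleFacts hG hF).le_omega).trans (omegaOneCenter_le _))
    conv_lhs => rw [← hF.2.2.1, hq]
    exact (moduleFacts hG hF).eq.le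

variable (hE : IsBaumannBlock p (T : Subgroup G) E) (hEs : E.IsSubnormal)
  (hF : IsBaumannBlock p (U : Subgroup G) F) (hFN : F ≤ normalizer (E : Set G))

include hG hE hEs hF hFN

theorem inter_module : ⁅𝐗 E, F⁆ ≤ (𝐗 E) ⊓ (𝐗 F) := by
  refine le_inf (le_normalizer_iff_commutator_le_left.1 fun f hf => ?_)
    (commutator_mono (moduleFacts hG hE).le_v le_rfl)
  rw [mem_normalizer_iff_map, module_map, mem_normalizer_iff_map.1 (hFN hf)]

theorem centMod_le_core {g : G} (hg : g ∈ E) (h : ∀ x ∈ (𝐗 E), g * x = x * g) : g ∈ pCoreOf p E :=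
  Pair.mem_core_of_centralizes hG hE hg h

/-- If `F` centralises the module it centralises the block. -/
theorem commute_of_centralizes (hB : baumannSubgroupOf p (U : Subgroup G) ≤ normalizer (E : Set G))
    (hXF : ⁅𝐗 E, F⁆ = ⊥) : ⁅E, F⁆ = ⊥ := by
  have hf := moduleFacts hG hE
  set Q := pCoreOf p E with hQdef
  rw [commutator_eq_bot_iff_le_centralizer] at hXF
  have hEF : ⁅E, F⁆ ≤ Q := by
    rw [commutator_le]
    intro e he f hf'
    refine centMod_le_core hG hE hEs hF hFN ?_ ?_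
    · exact le_normalizer_iff_commutator_le_left.1 hFN (commutator_mem_commutator he hf')
    · intro x hx
      have hfc : f ∈ centralizer ((𝐗 E : Subgroup G) : Set G) :=
        mem_centralizer_iff.2 fun y hy => (mem_centralizer_iff.1 (hXF hy) f hf').symm
      have : ⁅e, f⁆ ∈ centralizer ((𝐗 E : Subgroup G) : Set G) := by
        rw [commutatorElement_def]
        exact mul_mem ((mem_normalizer_iff.1 (LocalEven64.le_normalizer_centralizer le_rfl
          (hf.le_normalizer he)) f).1 hfc) (inv_mem hfc)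
      exact (mem_centralizer_iff.1 this x hx).symm
  have hQn : normalizer (E : Set G) ≤ normalizer (Q : Set G) :=
    LocalEven62.normalizer_le_normalizer_pCoreOf E
  set W := omegaOneCenter p Q with hWdef
  have hWn : normalizer (E : Set G) ≤ normalizer (W : Set G) :=
    hQn.trans (normalizer_le_normalizer_omegaOneCenter _)
  have hQF : ⁅Q, F⁆ = ⊥ := by
    rcases Pair.core_cases hG hE with hlin | hexc
    · rw [commutator_eq_bot_iff_le_centralizer]; exact hlin.le.trans hXF
    have h3 := hexc.three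
    have hWQ : W ≤ Q := omegaOneCenter_le _
    have hQcW : Q ≤ centralizer (W : Set G) := le_centralizer_iff.1 (omegaOneCenter_le_centralizer _)
    have hQQ : ⁅Q, Q⁆ ≤ W := hexc.derived.le.trans inf_le_left
    have hQW : Q ≤ normalizer (W : Set G) := (Pair.core_le E).trans (le_normalizer.trans hWn)
    have hcomm : ∀ e ∈ E, ∀ f ∈ F, ∀ a ∈ Q, ⁅⁅e, f⁆, a⁆ ∈ W := fun e he f hf' a ha =>
      hQQ (commutator_mem_commutator (hEF (commutator_mem_commutator he hf')) ha)
    have hder : ⁅Q, ⁅F, F⁆⁆ ≤ W := Pair.commutator_derived_le hWQ hQQ hQW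
      (le_normalizer.trans hQn) (le_normalizer.trans hWn) (hFN.trans hQn) (hFN.trans hWn) hexc.irr hcomm
    have hsq : ∀ f ∈ F, f * f ∈ ⁅F, F⁆ := by
      rcases perfect_or_small hG hF with h | h
      · intro f hf'; rw [h]; exact F.mul_mem hf' hf'
      · exact h.sq h3
    have hK : ∀ g ∈ F, (∀ a ∈ Q, ⁅g, a⁆ ∈ W) ∨ ∀ a ∈ Q, g * a * g⁻¹ * a ∈ W := fun g hg =>
      sign_of_irr hexc.irr hWQ hQQ (hQn (hFN hg)) (hWn (hFN hg)) hQW (le_normalizer.trans hQn)
        (le_normalizer.trans hWn) (fun e he => hcomm e he g hg) fun a ha => by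
          rw [← commutatorElement_inv]
          exact inv_mem (hder (commutator_mem_commutator ha (hsq g hg)))
    have hFB : F ≤ centMod Q W := by
      conv_lhs => rw [← hF.2.1]
      rw [commutator_le]
      intro f hf' b hb
      have hbn := hB hb
      have hfb : f * b * f⁻¹ * b⁻¹ ∈ normalizer (W : Set G) :=
        mul_mem (mul_mem (mul_mem (hWn (hFN hf')) (hWn hbn)) (inv_mem (hWn (hFN hf')))) (inv_mem (hWn hbn))
      refine ⟨hfb, fun a ha => ?_⟩
      have ha1 : b⁻¹ * a * b ∈ Q := by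
        simpa using (mem_normalizer_iff.1 (hQn (inv_mem hbn)) a).1 ha
      have hfi : f⁻¹ ∈ F := F.inv_mem hf'
      rcases hK f⁻¹ hfi with h | h
      · -- trivial
        have hm : f⁻¹ ∈ centMod Q W := ⟨hWn (hFN hfi), h⟩
        have hm' : f ∈ centMod Q W := by simpa using inv_mem hm
        have hcb : b * f⁻¹ * b⁻¹ ∈ centMod Q W := by
          refine ⟨mul_mem (mul_mem (hWn hbn) (hWn (hFN hfi))) (inv_mem (hWn hbn)), fun y hy => ?_⟩
          have hy1 : b⁻¹ * y * b ∈ Q := by
            simpa using (mem_normalizer_iff.1 (hQn (inv_mem hbn)) y).1 hy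
          have := (mem_normalizer_iff.1 (hWn hbn) _).1 (h _ hy1)
          rwa [show b * ⁅f⁻¹, b⁻¹ * y * b⁆ * b⁻¹ = ⁅b * f⁻¹ * b⁻¹, y⁆ by
            simp only [commutatorElement_def]; group] at this
        have := (mul_mem hm' hcb).2 a ha
        rwa [show f * (b * f⁻¹ * b⁻¹) = ⁅f, b⁆ by rw [commutatorElement_def]; group] at this
      · -- inverting
        set y := f⁻¹ * (b⁻¹ * a * b) * f⁻¹⁻¹ with hy
        have hy' : y * (b⁻¹ * a * b) ∈ W := h _ ha1
        have hyQ : y ∈ Q := (mem_normalizer_iff.1 (hQn (hFN hfi)) _).1 ha1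
        have hbyQ : b * y * b⁻¹ ∈ Q := (mem_normalizer_iff.1 (hQn hbn) _).1 hyQ
        have h2 : f * (b * y * b⁻¹) * f⁻¹ * (b * y * b⁻¹) ∈ W := by
          have h' := h _ ((mem_normalizer_iff.1 (hQn (hFN hf')) _).1 hbyQ)
          rw [show f⁻¹ * (f * (b * y * b⁻¹) * f⁻¹) * f⁻¹⁻¹ = b * y * b⁻¹ by group] at h'
          have := (mem_normalizer_iff.1 (hQW (inv_mem hbyQ)) _).1 h'
          rwa [inv_inv, show (b * y * b⁻¹)⁻¹ * ((b * y * b⁻¹) * (f * (b * y * b⁻¹) * f⁻¹)) * (b * y * b⁻¹) =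
            f * (b * y * b⁻¹) * f⁻¹ * (b * y * b⁻¹) by group] at this
        have hy'' : (b⁻¹ * a * b) * y ∈ W := by
          have := (mem_normalizer_iff.1 (hQW ha1) _).1 hy'
          rwa [show (b⁻¹ * a * b) * (y * (b⁻¹ * a * b)) * (b⁻¹ * a * b)⁻¹ = (b⁻¹ * a * b) * y by group] at this
        have h1 : b * ((b⁻¹ * a * b) * y) * b⁻¹ ∈ W := (mem_normalizer_iff.1 (hWn hbn) _).1 hy''
        have : ⁅⁅f, b⁆, a⁆ = (f * (b * y * b⁻¹) * f⁻¹ * (b * y * b⁻¹)) *
            (b * ((b⁻¹ * a * b) * y) * b⁻¹)⁻¹ := by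
          rw [hy]; simp only [commutatorElement_def]; group
        rw [show f * b * f⁻¹ * b⁻¹ = ⁅f, b⁆ from rfl] at *
        rw [this]
        exact mul_mem h2 (inv_mem h1)
    have hQFW : ⁅Q, F⁆ ≤ W := commutator_le.2 fun a ha f hf' => by
      rw [← commutatorElement_inv]
      exact inv_mem ((hFB hf').2 a ha)
    have hWc : ⁅W, Q⁆ = ⊥ := commutator_eq_bot_iff_le_centralizer.2 (omegaOneCenter_le_centralizer _)
    have hZF : ⁅⁅Q, Q⁆, F⁆ = ⊥ := by
      refine commutator_commutator_eq_bot_of_rotate ?_ ?_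
      · rw [← le_bot_iff]; exact (commutator_mono hQFW le_rfl).trans hWc.le
      · rw [← le_bot_iff, commutator_comm F Q]; exact (commutator_mono hQFW le_rfl).trans hWc.le
    rw [hexc.derived, commutator_eq_bot_iff_le_centralizer] at hZF
    have hWF : W ≤ centralizer (F : Set G) := hf.sup_eq.trans (sup_le hXF hZF)
    rw [commutator_comm, commutator_eq_bot_iff_le_centralizer]
    refine le_of_coprime hF.1 fun f hf' hfp => mem_centralizer_iff.2 fun a ha => ?_
    exact (PushUp62.commute_of_stabilizes ((Pair.isPGroup_core E).to_le hWQ)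
      (fun y hy => mem_centralizer_iff.1 (hWF hy) f hf') (pow_orderOf_eq_one f) hfp ((hFB hf').2 a ha)).symm
  rw [commutator_eq_bot_iff_le_centralizer] at hQF
  rw [commutator_comm, commutator_eq_bot_iff_le_centralizer]
  refine le_of_coprime hF.1 fun f hf' hfp => mem_centralizer_iff.2 fun e he => ?_
  exact (PushUp62.commute_of_stabilizes (Pair.isPGroup_core E)
    (fun y hy => mem_centralizer_iff.1 (hQF hy) f hf') (pow_orderOf_eq_one f) hfp
    (hEF.trans' (commutator_comm F E).le (commutator_mem_commutator hf' he))).symm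

theorem module_le_of_moves (hXF : ⁅𝐗 E, F⁆ ≠ ⊥) : (𝐗 F) ≤ 𝐗 E := by
  have hf := moduleFacts hG hF
  have hle := inter_module hG hE hEs hF hFN
  set W := omegaOneCenter p (pCoreOf p F) with hWdef
  set Z := W ⊓ centralizer (F : Set G) with hZdef
  set D := (𝐗 E) ⊓ (𝐗 F) with hD
  have hFX : F ≤ normalizer ((𝐗 E : Subgroup G) : Set G) := fun f hf' => by
    rw [mem_normalizer_iff_map, module_map, mem_normalizer_iff_map.1 (hFN hf')]
  have hFD : F ≤ normalizer (D : Set G) := LocalEven64.le_normalizer_inf hFX hf.le_normalizer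
  have hFW : F ≤ normalizer (W : Set G) := Pair.le_normalizer_omega_core F
  have hFZ : F ≤ normalizer (Z : Set G) :=
    LocalEven64.le_normalizer_inf hFW (LocalEven64.le_normalizer_centralizer le_normalizer)
  rcases Pair.irr_omega hG hF (D ⊔ Z) le_sup_right (sup_le (inf_le_right.trans hf.le_omega) inf_le_left)
    (LocalEven62.le_normalizer_sup hFD hFZ) with h | h
  · exfalso
    have hDc : D ≤ centralizer (F : Set G) := (le_sup_left.trans h.le).trans inf_le_right
    apply hXF
    rw [commutator_comm, commutator_eq_bot_iff_le_centralizer]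
    refine le_of_coprime hF.1 fun f hf' hfp => mem_centralizer_iff.2 fun x hx => ?_
    refine (PushUp62.commute_of_stabilizes ((Thompson.isPGroup_of_isElementaryAbelian
      (isElementaryAbelian_omegaOneCenter (p := p) (pCore p G))).to_le
        ((inf_le_left : D ≤ _).trans (moduleFacts hG hE).le_v))
      (fun y hy => mem_centralizer_iff.1 (hDc hy) f hf') (pow_orderOf_eq_one f) hfp ?_).symm
    exact (commutator_comm F (𝐗 E)).le.trans hle (commutator_mem_commutator hf' hx)
  · calc (𝐗 F) = ⁅W, F⁆ := hf.eq.symm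
      _ ≤ D := by
        rw [commutator_le]
        intro w hw f hf'
        replace hw : w ∈ D ⊔ Z := h.ge hw
        have hn : D ≤ normalizer (Z : Set G) := (inf_le_right.trans hf.le_omega).trans
          ((Thompson.le_centralizer_self (isElementaryAbelian_omegaOneCenter (p := p) (pCoreOf p F)).1).trans
            ((centralizer_le (inf_le_left : Z ≤ W)).trans (centralizer_le_normalizer _)))
        have hw' : w ∈ ((D : Set G) * (Z : Set G)) := by
          rw [← coe_mul_of_left_le_normalizer_right _ _ hn]; exact hw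
        obtain ⟨d, hd, z, hz, rfl⟩ := Set.mem_mul.1 hw'
        rw [PushUp62.commutator_mul_left,
          commutatorElement_eq_one_iff_mul_comm.2 (mem_centralizer_iff.1 hz.2 f hf').symm, mul_one,
          mul_inv_cancel, one_mul]
        exact le_normalizer_iff_commutator_le_left.1 hFD (commutator_mem_commutator hd hf')
      _ ≤ _ := inf_le_left

theorem le_of_moves (hB : baumannSubgroupOf p (U : Subgroup G) ≤ normalizer (E : Set G))
    (hXF : ⁅𝐗 E, F⁆ ≠ ⊥) (hEX : F ≤ E ⊔ centralizer ((𝐗 E : Subgroup G) : Set G)) : F ≤ E := by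
  set X := (𝐗 E) with hXdef
  set V := omegaOneCenter p (pCore p G) with hVdef
  have hYX := module_le_of_moves hG hE hEs hF hFN hXF
  set N := normalizer (E : Set G) with hNdef
  have hf := moduleFacts hG hE
  set C0 := centralizer (V : Set G) ⊓ N with hC0
  have hVn : ∀ H : Subgroup G, H ≤ normalizer (V : Set G) := le_normalizer_omegaPCore
  have hNC0 : N ≤ normalizer (C0 : Set G) :=
    LocalEven64.le_normalizer_inf (LocalEven64.le_normalizer_centralizer (hVn N)) le_normalizer
  set L := E ⊔ C0 with hL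
  have hLN : L ≤ N := sup_le le_normalizer inf_le_right
  set St := centralizer (X : Set G) ⊓ centMod V X ⊓ N with hSt
  -- `F ≤ L`
  have hFL : F ≤ L := by
    refine le_of_coprime hF.1 fun f hf' hfp => ?_
    have hX_n : E ≤ normalizer ((centralizer (X : Set G) : Subgroup G) : Set G) :=
      LocalEven64.le_normalizer_centralizer hf.le_normalizer
    have hfm : f ∈ ((E : Set G) * (centralizer (X : Set G) : Set G)) := by
      rw [← coe_mul_of_left_le_normalizer_right _ _ hX_n]; exact hEX hf'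
    obtain ⟨e, he, d, hd, rfl⟩ := Set.mem_mul.1 hfm
    have hdN : d ∈ N := by
      have := mul_mem (inv_mem (le_normalizer he : e ∈ N)) (hFN hf')
      rwa [inv_mul_cancel_left] at this
    have hcm : ∀ g, g ∈ N → (∀ v ∈ V, ⁅g, v⁆ ∈ X) → g ∈ centMod V X := fun g hg h => ⟨by
      rw [mem_normalizer_iff_map, hXdef, module_map, mem_normalizer_iff_map.1 hg], h⟩
    have hd2 : d ∈ centMod V X := by
      have h1 : e ∈ centMod V X := hcm e (le_normalizer he) fun v hv => by
        rw [← commutatorElement_inv]; exact inv_mem (commutator_mem_commutator hv he)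
      have h2 : e * d ∈ centMod V X := hcm _ (hFN hf') fun v hv => by
        rw [← commutatorElement_inv]; exact inv_mem (hYX (commutator_mem_commutator hv hf'))
      have := mul_mem (inv_mem h1) h2
      rwa [inv_mul_cancel_left] at this
    refine mem_of_coprime_mem_sup' (M := St) ?_ ?_ (mul_mem (mem_sup_left (mem_sup_left he))
      (mem_sup_right ⟨⟨hd, hd2⟩, hdN⟩)) hfp
    · intro s hs
      exact LocalEven62.le_normalizer_sup (le_normalizer (H := E) |> fun _ => (le_refl N)) hNC0 hs.2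
    · intro s hs
      obtain ⟨a, m, hm, ham⟩ := Nat.exists_eq_pow_mul_and_not_dvd (orderOf_pos s).ne' p hp.out.ne_one
      refine ⟨a, mem_sup_right ⟨?_, pow_mem hs.2 _⟩⟩
      have hord : (orderOf (s ^ p ^ a)).Coprime p := by
        rw [orderOf_pow' _ (pow_ne_zero _ hp.out.ne_zero), ham,
          Nat.gcd_eq_right (dvd_mul_right _ _), Nat.mul_div_cancel_left _ (pow_pos hp.out.pos _)]
        exact (hp.out.coprime_iff_not_dvd.2 hm).symm
      refine mem_centralizer_iff.2 fun v hv => (PushUp62.commute_of_stabilizes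
        ((Thompson.isPGroup_of_isElementaryAbelian (isElementaryAbelian_omegaOneCenter _)).to_le hf.le_v)
        (fun x hx => (mem_centralizer_iff.1 (pow_mem hs.1.1 _) x hx).symm) (pow_orderOf_eq_one _) hord
        ((pow_mem hs.1.2 (p ^ a) : s ^ p ^ a ∈ centMod V X).2 v hv)).symm
  have hdec : ∀ f ∈ F, ∃ e ∈ E, ∃ d ∈ C0, f = e * d := by
    intro f hf'
    have : f ∈ ((E : Set G) * (C0 : Set G)) := by
      rw [← coe_mul_of_left_le_normalizer_right _ _ (le_normalizer.trans hNC0)]; exact hFL hf'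
    obtain ⟨e, he, d, hd, h⟩ := Set.mem_mul.1 this
    exact ⟨e, he, d, hd, h.symm⟩
  -- `[F, F] ≤ E ⊔ Q_F`
  set QF := pCoreOf p F with hQF
  have hQFF : QF ≤ F := Pair.core_le F
  have hQFN : QF ≤ N := hQFF.trans hFN
  have hder : ⁅F, F⁆ ≤ E ⊔ QF := by
    rw [commutator_le]
    intro f₁ hf₁ f₂ hf₂
    obtain ⟨e₁, he₁, d₁, hd₁, rfl⟩ := hdec f₁ hf₁
    obtain ⟨e₂, he₂, d₂, hd₂, hf2⟩ := hdec f₂ hf₂
    have hdF : d₁ ∈ normalizer (F : Set G) := by
      refine LAE62.centralizer_modX_le_normalizer U hG hF (centralizer_le ?_ hd₁.1)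
      show ⁅omegaOneCenter p (pCoreOf p F), F⁆ ≤ V
      exact module_le hG hF
    have hq : ⁅d₁, f₂⁆ ∈ QF := by
      refine Pair.mem_core_of_centralizes hG hF ?_ fun y hy => ?_
      · rw [commutatorElement_def]
        exact mul_mem ((mem_normalizer_iff.1 hdF f₂).1 hf₂) (inv_mem hf₂)
      · have : ⁅d₁, f₂⁆ ∈ centralizer (V : Set G) := by
          rw [commutatorElement_def, show d₁ * f₂ * d₁⁻¹ * f₂⁻¹ = d₁ * (f₂ * d₁⁻¹ * f₂⁻¹) by group]
          exact mul_mem hd₁.1 ((mem_normalizer_iff.1 (LocalEven64.le_normalizer_centralizer (hVn ⊤)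
            (mem_top f₂)) _).1 (inv_mem hd₁.1))
        exact (mem_centralizer_iff.1 this y ((moduleFacts hG hF).le_v hy)).symm
    rw [PushUp62.commutator_mul_left,
      show e₁ * ⁅d₁, f₂⁆ * e₁⁻¹ = ⁅e₁, ⁅d₁, f₂⁆⁆ * ⁅d₁, f₂⁆ by simp only [commutatorElement_def]; group]
    refine mul_mem (mul_mem (mem_sup_left ?_) (mem_sup_right hq)) (mem_sup_left ?_)
    · exact le_normalizer_iff_commutator_le_left.1 hFN (commutator_mem_commutator he₁ (hQFF hq))
    · exact le_normalizer_iff_commutator_le_left.1 hFN (commutator_mem_commutator he₁ hf₂)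
  rcases perfect_or_small hG hF with hperf | hs
  · rw [hperf] at hder
    exact le_of_coprime hF.1 fun f hf' hfp =>
      mem_of_coprime_mem_sup (Pair.isPGroup_core F) hQFN (hder hf') hfp
  -- the small case: `Q_F ≤ E`
  have hQE : QF ≤ E := by
    rcases hs.core with h | ⟨hexc, c, hc, hneg⟩
    · exact h.le.trans (hYX.trans (module_le_self hG hE hEs))
    set WF := omegaOneCenter p QF with hWF
    have h3 := hexc.three
    obtain ⟨e, he, q, hq, hceq⟩ : ∃ e ∈ E, ∃ q ∈ QF, c = e * q := by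
      have : c ∈ ((E : Set G) * (QF : Set G)) := by
        rw [← coe_mul_of_right_le_normalizer_left _ _ hQFN]; exact hder hc
      obtain ⟨e, he, q, hq, h⟩ := Set.mem_mul.1 this
      exact ⟨e, he, q, hq, h.symm⟩
    subst hceq
    have hYE : (𝐗 F) ≤ E := hYX.trans (module_le_self hG hE hEs)
    set I := QF ⊓ E with hI
    have hIW : I ≤ normalizer (WF : Set G) :=
      inf_le_left.trans (hQFF.trans (Pair.le_normalizer_omega_core F))
    have hQI : QF ≤ I ⊔ WF := by
      intro u hu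
      have hu' : q * u * q⁻¹ ∈ QF := QF.mul_mem (QF.mul_mem hq hu) (QF.inv_mem hq)
      have hn := hneg u hu
      have hc2 : ⁅e, q * u * q⁻¹⁆ ∈ I := by
        refine ⟨?_, le_normalizer_iff_commutator_le_left.1 (hQFN.trans le_rfl)
          (commutator_mem_commutator he hu')⟩
        rw [show ⁅e, q * u * q⁻¹⁆ = (e * q) * u * (e * q)⁻¹ * (q * u * q⁻¹)⁻¹ by
          simp only [commutatorElement_def]; group]
        have hcF : e * q ∈ F := (commutator_le.2 fun a ha b hb =>
          mul_mem (mul_mem (mul_mem ha hb) (inv_mem ha)) (inv_mem hb) : ⁅F, F⁆ ≤ F) hc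
        exact QF.mul_mem ((mem_normalizer_iff.1 (Pair.le_normalizer_core F hcF) u).1 hu) (QF.inv_mem hu')
      have hqu : ⁅q, u⁆ ∈ WF := (hexc.derived.le.trans inf_le_left) (commutator_mem_commutator hq hu)
      have h2 : u * u ∈ I ⊔ WF := by
        have e1 : u * u = ⁅q, u⁆⁻¹ * ⁅e, q * u * q⁻¹⁆⁻¹ * ((e * q) * u * (e * q)⁻¹ * u) := by
          simp only [commutatorElement_def]; group
        rw [e1]
        exact mul_mem (mul_mem (mem_sup_right (inv_mem hqu)) (mem_sup_left (inv_mem hc2)))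
          (mem_sup_right hn)
      obtain ⟨a, ha⟩ := Pair.isPGroup_core (p := p) F ⟨u, hu⟩
      have ha' : u ^ p ^ a = 1 := by simpa using congrArg Subtype.val ha
      obtain ⟨t, ht⟩ := (Odd.pow (h3 ▸ (by decide : Odd 3)) : Odd (p ^ a))
      have : u = (u * u) ^ (t + 1) := by
        rw [← sq, ← pow_mul, show 2 * (t + 1) = p ^ a + 1 by omega, pow_add, ha', one_mul, pow_one]
      exact this.symm ▸ pow_mem h2 _
    have hWc : ∀ {w x}, w ∈ WF → x ∈ QF → x * w = w * x := fun hw hx =>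
      mem_centralizer_iff.1 (omegaOneCenter_le_centralizer _ hw) _ hx
    have hZ : WF ⊓ centralizer (F : Set G) ≤ E := by
      rw [← hexc.derived]
      refine commutator_le.2 fun a ha b hb => ?_
      have ha' : a ∈ ((I : Set G) * (WF : Set G)) := by
        rw [← coe_mul_of_left_le_normalizer_right _ _ hIW]; exact hQI ha
      have hb' : b ∈ ((I : Set G) * (WF : Set G)) := by
        rw [← coe_mul_of_left_le_normalizer_right _ _ hIW]; exact hQI hb
      obtain ⟨i, hi, w, hw, rfl⟩ := Set.mem_mul.1 ha'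
      obtain ⟨i', hi', w', hw', rfl⟩ := Set.mem_mul.1 hb'
      rw [PushUp62.commutator_mul_left, commutatorElement_eq_one_iff_mul_comm.2 (hWc hw hb).symm,
        mul_one, mul_inv_cancel, one_mul, PushUp62.commutator_mul_right,
        commutatorElement_eq_one_iff_mul_comm.2 (hWc hw' hi.1), mul_one, mul_inv_cancel, mul_one,
        commutatorElement_def]
      exact mul_mem (mul_mem (mul_mem hi.2 hi'.2) (inv_mem hi.2)) (inv_mem hi'.2)
    exact hQI.trans (sup_le inf_le_right ((moduleFacts hG hF).sup_eq.trans (sup_le hYE hZ)))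
  have hderE : ⁅F, F⁆ ≤ E := hder.trans (sup_le le_rfl hQE)
  set Q := pCoreOf p E with hQdef
  have hQeq : E ⊓ pCore p G = Q := Pair.core_eq_inf hEs
  have hNQ : N ≤ normalizer (Q : Set G) := LocalEven62.normalizer_le_normalizer_pCoreOf E
  -- the stabiliser part
  set R0 := C0 ⊓ centMod (pCore p G) Q with hR0
  have hMF : ∀ f ∈ F, ∀ m ∈ pCore p G, ⁅f, m⁆ ∈ Q := by
    intro f hf' m hm
    have hle : ⁅F, pCore p G⁆ ≤ F ⊓ pCore p G :=
      le_inf (le_normalizer_iff_commutator_le_left.1 (core_le_normalizer hF))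
        (le_normalizer_iff_commutator_le_right.1 (le_normalizer_pCore F))
    have hp' : IsPGroup p ↥(F ⊓ pCore p G) := Thompson.isPGroup_pCore.to_le inf_le_right
    have hFM : F ⊓ pCore p G ≤ QF := LocalEven64.le_pCoreOf inf_le_left
      (LocalEven64.le_normalizer_inf le_normalizer (le_normalizer_pCore F)) hp'
    rw [← hQeq]
    exact ⟨hQE (hFM (hle (commutator_mem_commutator hf' hm))),
      le_normalizer_iff_commutator_le_right.1 (le_normalizer_pCore F) (commutator_mem_commutator hf' hm)⟩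
  have hdR : ∀ {e d}, e ∈ E → d ∈ C0 → e * d ∈ F → d ∈ R0 := by
    intro e d he hd hed
    refine ⟨hd, hNQ hd.2, fun m hm => ?_⟩
    have h1 : ⁅e⁻¹, m⁆ ∈ Q := by
      rw [← hQeq]
      exact ⟨le_normalizer_iff_commutator_le_left.1 (core_le_normalizer hE)
          (commutator_mem_commutator (E.inv_mem he) hm),
        le_normalizer_iff_commutator_le_right.1 (le_normalizer_pCore E)
          (commutator_mem_commutator (E.inv_mem he) hm)⟩
    have e1 : d = e⁻¹ * (e * d) := by group
    rw [e1, PushUp62.commutator_mul_left]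
    exact mul_mem ((mem_normalizer_iff.1 (hNQ (le_normalizer (E.inv_mem he))) _).1 (hMF _ hed m hm)) h1
  have hR0X : ∀ {d}, d ∈ R0 → d ∈ centralizer (X : Set G) := fun hd => centralizer_le hf.le_v hd.1.1
  rcases Pair.core_cases hG hE with hlin | hexc
  · -- linear
    refine le_of_coprime hF.1 fun f hf' hfp => ?_
    obtain ⟨e, he, d, hd, hfd⟩ := hdec f hf'
    refine mem_of_coprime_mem_sup (M := R0) (LAE62.isPGroup_of_coprime_trivial fun g hg hgp => ?_)
      (fun g hg => hg.1.2)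
      (hfd ▸ mul_mem (mem_sup_left he) (mem_sup_right (hdR he hd (hfd ▸ hf')))) hfp
    refine Pair.eq_one_of_stabilizes hG (hQeq.ge.trans inf_le_right) hgp (fun r hr => ?_) hg.2.2
    exact (mem_centralizer_iff.1 (hR0X hg) r (hlin.le hr)).symm
  -- exceptional
  have h3 := hexc.three
  set W := omegaOneCenter p Q with hWdef
  have hWQ : W ≤ Q := omegaOneCenter_le _
  have hNW : N ≤ normalizer (W : Set G) := hNQ.trans (normalizer_le_normalizer_omegaOneCenter _)
  have hQW : Q ≤ normalizer (W : Set G) := (Pair.core_le E).trans (le_normalizer.trans hNW)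
  have hQQ : ⁅Q, Q⁆ ≤ W := hexc.derived.le.trans inf_le_left
  have hcore : ∀ {g}, g ∈ E → g ∈ centralizer (X : Set G) → g ∈ Q := fun {g} hg hc =>
    Pair.mem_core_of_centralizes hG hE hg fun x hx => (mem_centralizer_iff.1 hc x hx).symm
  set K1 := R0 ⊓ centMod Q W with hK1
  have hK1p : IsPGroup p ↥K1 := by
    refine LAE62.isPGroup_of_coprime_trivial fun g hg hgp => ?_
    have hgW : ∀ w ∈ W, g * w = w * g := by
      have hgQ : ⁅Q, zpowers g⁆ ≤ W := commutator_le.2 fun a ha x hx => by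
        rw [← commutatorElement_inv]
        exact inv_mem ((zpowers_le.2 hg.2 hx : x ∈ centMod Q W).2 a ha)
      have hWc : ⁅W, Q⁆ = ⊥ := commutator_eq_bot_iff_le_centralizer.2 (omegaOneCenter_le_centralizer _)
      have hZg : ⁅⁅Q, Q⁆, zpowers g⁆ = ⊥ := by
        refine commutator_commutator_eq_bot_of_rotate ?_ ?_
        · rw [← le_bot_iff]; exact (commutator_mono hgQ le_rfl).trans hWc.le
        · rw [← le_bot_iff, commutator_comm (zpowers g) Q]
          exact (commutator_mono hgQ le_rfl).trans hWc.le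
      rw [hexc.derived, commutator_eq_bot_iff_le_centralizer] at hZg
      have hle : W ≤ centralizer ({g} : Set G) := hf.sup_eq.trans (sup_le
        (fun x hx => mem_centralizer_singleton.2 (mem_centralizer_iff.1 (hR0X hg.1) x hx))
        (fun z hz => mem_centralizer_singleton.2
          (mem_centralizer_iff.1 (hZg hz) g (mem_zpowers g)).symm))
      exact fun w hw => (mem_centralizer_singleton.1 (hle hw)).symm
    refine Pair.eq_one_of_stabilizes hG (hQeq.ge.trans inf_le_right) hgp (fun r hr => ?_) hg.1.2.2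
    exact PushUp62.commute_of_stabilizes ((Pair.isPGroup_core E).to_le hWQ) hgW (pow_orderOf_eq_one g) hgp
      (hg.2.2 r hr)
  have hsign : ∀ {e d}, e ∈ E → d ∈ C0 → e * d ∈ F →
      (∀ a ∈ Q, ⁅d, a⁆ ∈ W) ∨ ∀ a ∈ Q, d * a * d⁻¹ * a ∈ W := by
    intro e d he hd hed
    refine sign_of_irr hexc.irr hWQ hQQ (hNQ hd.2) (hNW hd.2) hQW (le_normalizer.trans hNQ)
      (le_normalizer.trans hNW) (fun e' he' a ha => ?_) fun a ha => ?_
    · refine hQQ (commutator_mem_commutator ?_ ha)
      refine hcore (le_normalizer_iff_commutator_le_left.1 (zpowers_le.2 hd.2)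
        (commutator_mem_commutator he' (mem_zpowers d))) ?_
      rw [commutatorElement_def]
      exact mul_mem ((mem_normalizer_iff.1 (LocalEven64.le_normalizer_centralizer le_rfl
        (hf.le_normalizer he')) d).1 (centralizer_le hf.le_v hd.1))
        (inv_mem (centralizer_le hf.le_v hd.1))
    · refine hQQ (commutator_mem_commutator ?_ ha)
      refine hcore ?_ (mul_mem (centralizer_le hf.le_v hd.1) (centralizer_le hf.le_v hd.1))
      have h2 : (e * d) * (e * d) ∈ E := hderE (hs.sq h3 _ hed)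
      have h3' : d * e * d⁻¹ ∈ E := (mem_normalizer_iff.1 hd.2 e).1 he
      have := mul_mem (inv_mem (mul_mem he h3')) h2
      rwa [show (e * (d * e * d⁻¹))⁻¹ * (e * d * (e * d)) = d * d by group] at this
  have hK1N : K1 ≤ N := fun g hg => hg.1.1.2
  suffices hFK : F ≤ E ⊔ K1 from
    le_of_coprime hF.1 fun f hf' hfp => mem_of_coprime_mem_sup hK1p hK1N (hFK hf') hfp
  conv_lhs => rw [← hF.2.1]
  rw [commutator_le]
  intro f hf' b hb
  obtain ⟨e, he, d, hd, rfl⟩ := hdec f hf'
  have hbN : b ∈ N := hB hb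
  have hdR0 := hdR he hd hf'
  have hdR1 : b * d⁻¹ * b⁻¹ ∈ R0 := by
    have hd' := R0.inv_mem hdR0
    refine ⟨(mem_normalizer_iff.1 (hNC0 hbN) _).1 hd'.1, hNQ (mul_mem (mul_mem hbN hd'.1.2) (inv_mem hbN)),
      fun m hm => ?_⟩
    have hm' : b⁻¹ * m * b ∈ pCore p G := by
      simpa using (mem_normalizer_iff.1 (le_normalizer_pCore ⊤ (mem_top b⁻¹)) m).1 hm
    have := (mem_normalizer_iff.1 (hNQ hbN) _).1 (hd'.2.2 _ hm')
    rwa [show b * ⁅d⁻¹, b⁻¹ * m * b⁆ * b⁻¹ = ⁅b * d⁻¹ * b⁻¹, m⁆ by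
      simp only [commutatorElement_def]; group] at this
  rw [show ⁅e * d, b⁆ = e * (d * (b * d⁻¹ * b⁻¹)) * (b * e⁻¹ * b⁻¹) by
    rw [commutatorElement_def]; group]
  refine mul_mem (mul_mem (mem_sup_left he) (mem_sup_right ⟨mul_mem hdR0 hdR1, ?_⟩))
    (mem_sup_left ((mem_normalizer_iff.1 hbN _).1 (E.inv_mem he)))
  have hdi : d⁻¹ ∈ N := inv_mem hd.2
  rcases hsign he hd hf' with h | h
  · have hm : d ∈ centMod Q W := ⟨hNW hd.2, h⟩
    refine mul_mem hm ⟨mul_mem (mul_mem (hNW hbN) (hNW hdi)) (inv_mem (hNW hbN)), fun y hy => ?_⟩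
    have hy1 : b⁻¹ * y * b ∈ Q := by simpa using (mem_normalizer_iff.1 (hNQ (inv_mem hbN)) y).1 hy
    have := (mem_normalizer_iff.1 (hNW hbN) _).1 ((inv_mem hm).2 _ hy1)
    rwa [show b * ⁅d⁻¹, b⁻¹ * y * b⁆ * b⁻¹ = ⁅b * d⁻¹ * b⁻¹, y⁆ by
      simp only [commutatorElement_def]; group] at this
  · refine ⟨mul_mem (hNW hd.2) (mul_mem (mul_mem (hNW hbN) (hNW hdi)) (inv_mem (hNW hbN))), fun a ha => ?_⟩
    set a' := b⁻¹ * a * b with ha'
    have ha'Q : a' ∈ Q := by simpa using (mem_normalizer_iff.1 (hNQ (inv_mem hbN)) a).1 ha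
    set y := d⁻¹ * a' * d with hy
    have hyQ : y ∈ Q := by simpa using (mem_normalizer_iff.1 (hNQ hdi) a').1 ha'Q
    have hy' : a' * y ∈ W := by
      have := h y hyQ
      rwa [show d * y * d⁻¹ = a' by rw [hy]; group] at this
    have hbyQ : b * y * b⁻¹ ∈ Q := (mem_normalizer_iff.1 (hNQ hbN) _).1 hyQ
    have h1 := h _ hbyQ
    have h2 := (mem_normalizer_iff.1 (hNW hbN) _).1 hy'
    rw [show ⁅d * (b * d⁻¹ * b⁻¹), a⁆ = (d * (b * y * b⁻¹) * d⁻¹ * (b * y * b⁻¹)) *
        (b * (a' * y) * b⁻¹)⁻¹ by rw [hy, ha']; simp only [commutatorElement_def]; group]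
    exact mul_mem h1 (inv_mem h2)
where
  mem_of_coprime_mem_sup' {G : Type _} [Group G] [Finite G] {p : ℕ} {L M : Subgroup G}
      (hML : M ≤ normalizer (L : Set G)) (hM : ∀ g ∈ M, ∃ a : ℕ, g ^ p ^ a ∈ L) {x : G}
      (hx : x ∈ L ⊔ M) (hxp : (orderOf x).Coprime p) : x ∈ L := by
    have : x ∈ ((L : Set G) * (M : Set G)) := by
      rw [← coe_mul_of_right_le_normalizer_left _ _ hML]; exact hx
    obtain ⟨l, hl, m, hm, rfl⟩ := Set.mem_mul.1 this
    obtain ⟨a, ha⟩ := hM m hm
    have key : ∀ k : ℕ, (l * m) ^ k * (m ^ k)⁻¹ ∈ L := by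
      intro k
      induction k with
      | zero => simp
      | succ k ih =>
        have : (l * m) ^ (k + 1) * (m ^ (k + 1))⁻¹ = l * (m * ((l * m) ^ k * (m ^ k)⁻¹) * m⁻¹) := by
          rw [pow_succ', pow_succ']; group
        rw [this]
        exact mul_mem hl ((mem_normalizer_iff.1 (hML hm) _).1 ih)
    have h1 : (l * m) ^ p ^ a ∈ L := by
      have := mul_mem (key (p ^ a)) ha
      rwa [inv_mul_cancel_right] at this
    obtain ⟨t, ht⟩ := exists_pow_eq_self_of_coprime (hxp.symm.pow_left a)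
    rw [← ht]
    exact pow_mem h1 t

end Cfsg.Agent.LAE65.Normal
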