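import Cfsg.Agent.LAE65.Normal.Family

/-!
Elements of odd order act on the even permutation module as elements of the block.
-/

set_option autoImplicit false
set_option linter.style.haveILetI false
set_option linter.unusedSectionVars false
set_option maxHeartbeats 800000

open Subgroup Cfsg
open scoped commutatorElement Pointwise

namespace Cfsg.Agent.LAE65.Normal

open Block

variable {G : Type*} [Group G] [Finite G] {p : ℕ} [hp : Fact p.Prime] {E : Subgroup G}
  {U : Sylow p G} {n : ℕ}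

/-- `[V, E]`. -/
local notation "𝐗" E => ⁅omegaOneCenter p (pCore p G), (E : Subgroup G)⁆

/-- The vector of weight `n - 1`. -/
def coVec (i : Fin n) : Fin n → ZMod 2 := fun j => if j = i then 0 else 1

theorem coVec_injective : Function.Injective (coVec (n := n)) := fun i j h => by
  by_contra hij
  have := congrFun h i
  simp [coVec, hij] at this

theorem sum_coVec {m : ℕ} (i : Fin (2 * m + 1)) : ∑ j, coVec i j = 0 := by
  have h : ∀ j, coVec i j = 1 - (if j = i then (1 : ZMod 2) else 0) := fun j => by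
    unfold coVec; split <;> simp
  simp_rw [h, Finset.sum_sub_distrib]
  simp [show (2 : ZMod 2) = 0 from rfl]

/-- A nonzero even vector with few images under even permutations has weight `n - 1`. -/
theorem eq_coVec {m : ℕ} (hm : 2 ≤ m) {v : Fin (2 * m + 1) → ZMod 2} (hv : ∑ j, v j = 0) (hv0 : v ≠ 0)
    (O : Set (Fin (2 * m + 1) → ZMod 2)) (hcard : Nat.card O ≤ 2 * m + 1)
    (hO : ∀ σ : Equiv.Perm (Fin (2 * m + 1)), σ ∈ alternatingGroup (Fin (2 * m + 1)) →
      (fun j => v (σ⁻¹ j)) ∈ O) : ∃ i, v = coVec i := by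
  classical
  have h01 : ∀ a : ZMod 2, a = 0 ∨ a = 1 := by decide
  set S := Finset.univ.filter fun j => v j = 1 with hS
  have hsum : (S.card : ZMod 2) = 0 := by
    rw [← hv, hS, Finset.card_filter, Nat.cast_sum]
    refine Finset.sum_congr rfl fun j _ => ?_
    rcases h01 (v j) with h | h <;> simp [h]
  obtain ⟨w, hw⟩ := (ZMod.natCast_eq_zero_iff_even).1 hsum
  have hScard : S.card ≠ 0 := fun h => hv0 (funext fun j => (h01 (v j)).resolve_right fun hj => by
    rw [Finset.card_eq_zero] at h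
    exact Finset.notMem_empty j (h ▸ Finset.mem_filter.2 ⟨Finset.mem_univ j, hj⟩))
  have hle : S.card + Sᶜ.card = 2 * m + 1 := by rw [Finset.card_add_card_compl, Fintype.card_fin]
  by_cases hc : Sᶜ.card = 1
  · obtain ⟨i, hi⟩ := Finset.card_eq_one.1 hc
    refine ⟨i, funext fun j => ?_⟩
    have hj : j ∈ Sᶜ ↔ j = i := by rw [hi, Finset.mem_singleton]
    simp only [hS, Finset.mem_compl, Finset.mem_filter, Finset.mem_univ, true_and] at hj
    unfold coVec
    split_ifs with h
    · exact (h01 _).resolve_right (hj.2 h)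
    · exact not_not.1 fun h1 => h (hj.1 h1)
  exfalso
  have hc3 : 3 ≤ Sᶜ.card := by omega
  have h2 : ∀ j ∈ Sᶜ, ∃ a ∈ Sᶜ, ∃ b ∈ Sᶜ, a ≠ b ∧ a ≠ j ∧ b ≠ j := by
    intro j hj
    have : 1 < (Sᶜ.erase j).card := by rw [Finset.card_erase_of_mem hj]; omega
    obtain ⟨a, ha, b, hb, hab⟩ := Finset.one_lt_card.1 this
    exact ⟨a, Finset.mem_of_mem_erase ha, b, Finset.mem_of_mem_erase hb, hab, Finset.ne_of_mem_erase ha,
      Finset.ne_of_mem_erase hb⟩
  let img : ↥S × ↥Sᶜ → O := fun q => ⟨fun l => v (Equiv.swap (q.1 : Fin _) (q.2 : Fin _) l), by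
    obtain ⟨a, ha, b, hb, hab, haj, hbj⟩ := h2 _ q.2.2
    have hi : v q.1 = 1 := (Finset.mem_filter.1 q.1.2).2
    have hj0 : ∀ {c}, c ∈ Sᶜ → v c = 0 := fun {c} hc => (h01 _).resolve_right fun h =>
      Finset.mem_compl.1 hc (Finset.mem_filter.2 ⟨Finset.mem_univ _, h⟩)
    have hia : (q.1 : Fin _) ≠ a := fun h => by have := hj0 ha; rw [← h, hi] at this; exact one_ne_zero this
    have hib : (q.1 : Fin _) ≠ b := fun h => by have := hj0 hb; rw [← h, hi] at this; exact one_ne_zero this
    have hne : (q.1 : Fin (2 * m + 1)) ≠ (q.2 : Fin (2 * m + 1)) := fun h => by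
      have := hj0 q.2.2; rw [← h, hi] at this; exact one_ne_zero this
    convert hO (Equiv.swap (q.1 : Fin _) q.2 * Equiv.swap a b) (by
      rw [Equiv.Perm.mem_alternatingGroup, map_mul, Equiv.Perm.sign_swap hne, Equiv.Perm.sign_swap hab]
      decide) using 1
    funext l
    rw [mul_inv_rev, Equiv.swap_inv, Equiv.swap_inv, Equiv.Perm.mul_apply]
    set l' := Equiv.swap (q.1 : Fin _) (q.2 : Fin _) l
    rw [Equiv.swap_apply_def]
    split_ifs with e1 e2
    · rw [e1, hj0 ha, hj0 hb]
    · rw [e2, hj0 ha, hj0 hb]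
    · rfl⟩
  have himg : Function.Injective img := by
    rintro ⟨⟨i, hi⟩, ⟨j, hj⟩⟩ ⟨⟨i', hi'⟩, ⟨j', hj'⟩⟩ h
    have h' : ∀ l, v (Equiv.swap i j l) = v (Equiv.swap i' j' l) := congrFun (congrArg Subtype.val h)
    have hv1 : ∀ {c}, c ∈ S → v c = 1 := fun {c} hc => (Finset.mem_filter.1 hc).2
    have hj0 : ∀ {c}, c ∈ Sᶜ → v c = 0 := fun {c} hc => (h01 _).resolve_right fun h =>
      Finset.mem_compl.1 hc (Finset.mem_filter.2 ⟨Finset.mem_univ _, h⟩)
    have hij : i ≠ j := fun e => Finset.mem_compl.1 hj (e ▸ hi)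
    obtain rfl : i = i' := by
      by_contra e
      have h1 := h' i
      rw [Equiv.swap_apply_left, hj0 hj,
        Equiv.swap_apply_of_ne_of_ne e (fun e' => Finset.mem_compl.1 hj' (by rw [← e']; exact hi)), hv1 hi] at h1
      exact zero_ne_one h1
    obtain rfl : j = j' := by
      by_contra e
      have h1 := h' j
      rw [Equiv.swap_apply_right, hv1 hi,
        Equiv.swap_apply_of_ne_of_ne hij.symm e, hj0 hj] at h1
      exact one_ne_zero h1
    rfl
  have := Nat.card_le_card_of_injective img himg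
  rw [Nat.card_prod, Nat.card_eq_finsetCard, Nat.card_eq_finsetCard] at this
  have hs2 : 2 ≤ S.card := by omega
  obtain ⟨a, ha⟩ := Nat.exists_eq_add_of_le hs2
  obtain ⟨b, hb⟩ := Nat.exists_eq_add_of_le hc3
  rw [ha, hb] at this
  nlinarith [Nat.zero_le (a * b)]

/-- An element of odd order normalising `E` acts on `[V, E]` as an element of `E`. -/
theorem mem_sup_of_perm {m : ℕ} (hm : 2 ≤ m) (hG : centralizer (pCore p G : Set G) ≤ pCore p G)
    (hE : IsBaumannBlock p (U : Subgroup G) E) (hEs : E.IsSubnormal)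
    (hact : ActsAsOddPermModuleOnSection (2 * m + 1) (alternatingGroup (Fin (2 * m + 1))) E
      (omegaOneCenter p (pCoreOf p E)) (omegaOneCenter p (pCoreOf p E) ⊓ centralizer (E : Set G)))
    {f : G} (hf : f ∈ normalizer (E : Set G)) (hodd : Odd (orderOf f)) :
    f ∈ E ⊔ centralizer ((𝐗 E : Subgroup G) : Set G) := by
  classical
  have hM := moduleFacts hG hE
  set W := omegaOneCenter p (pCoreOf p E) with hW
  obtain ⟨-, -, ρ, ψ, hρ, hsum, hsurj, hker, heq⟩ := hact
  set X := (𝐗 E) with hX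
  let crd : G → Fin (2 * m + 1) → ZMod 2 :=
    Function.extend Subtype.val (fun u : ↥W => fun i => Multiplicative.toAdd (ψ u) i) 0
  have hc : ∀ u : W, crd u = Multiplicative.toAdd (ψ u) := fun u => Subtype.val_injective.extend_apply _ _ _
  have hmul : ∀ {a b}, a ∈ W → b ∈ W → crd (a * b) = crd a + crd b := fun {a b} ha hb => by
    have := hc (⟨a, ha⟩ * ⟨b, hb⟩)
    rw [map_mul, toAdd_mul, ← hc, ← hc] at this
    exact this
  have hkerX : ∀ {a}, a ∈ X → (crd a = 0 ↔ a ∈ centralizer (E : Set G)) := fun {a} ha => by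
    rw [hc ⟨a, hM.le_omega ha⟩]
    refine ⟨fun h => ((hker ⟨a, hM.le_omega ha⟩).1 (Multiplicative.toAdd.injective h)).2, fun h => ?_⟩
    rw [(hker ⟨a, hM.le_omega ha⟩).2 ⟨hM.le_omega ha, h⟩]; rfl
  have hzero : ∀ {z}, z ∈ W → z ∈ centralizer (E : Set G) → crd z = 0 := fun {z} hz hzc => by
    rw [hc ⟨z, hz⟩, (hker ⟨z, hz⟩).2 ⟨hz, hzc⟩]; rfl
  have hsurjX : ∀ i, ∃ x ∈ X, crd x = coVec i := by
    intro i
    obtain ⟨u, hu⟩ := hsurj (coVec i) (sum_coVec i)
    have hn : X ≤ normalizer ((W ⊓ centralizer (E : Set G) : Subgroup G) : Set G) :=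
      hM.le_omega.trans ((Thompson.le_centralizer_self (isElementaryAbelian_omegaOneCenter (p := p) (pCoreOf p E)).1).trans
        ((centralizer_le (inf_le_left (b := centralizer (E : Set G)))).trans (centralizer_le_normalizer _)))
    have h2 : (u : G) ∈ ((X : Set G) * ((W ⊓ centralizer (E : Set G) : Subgroup G) : Set G)) := by
      rw [← coe_mul_of_left_le_normalizer_right _ _ hn]; exact hM.sup_eq u.2
    obtain ⟨x, hx, z, hz, hxz⟩ := Set.mem_mul.1 h2
    refine ⟨x, hx, ?_⟩
    rw [← hu, ← hc, ← hxz, hmul (hM.le_omega hx) hz.1, hzero hz.1 hz.2, add_zero]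
  have hconjX : ∀ {g x}, g ∈ normalizer (E : Set G) → x ∈ X → g * x * g⁻¹ ∈ X := fun {g x} hg hx => by
    have h : g ∈ normalizer (X : Set G) := by
      rw [mem_normalizer_iff_map, hX, module_map, mem_normalizer_iff_map.1 hg]
    exact (mem_normalizer_iff.1 h x).1 hx
  have hinv : ∀ {a}, a ∈ X → crd a⁻¹ = -crd a := fun {a} ha => by
    have h := hmul (hM.le_omega (inv_mem ha)) (hM.le_omega ha)
    rw [inv_mul_cancel, hzero (one_mem _) (one_mem _)] at h
    exact eq_neg_of_add_eq_zero_left h.symm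
  have heqX : ∀ {a b}, a ∈ X → b ∈ X → (crd a = crd b ↔ a * b⁻¹ ∈ centralizer (E : Set G)) := fun {a b} ha hb => by
    rw [← hkerX (mul_mem ha (inv_mem hb)), hmul (hM.le_omega ha) (hM.le_omega (inv_mem hb)), hinv hb,
      ← sub_eq_add_neg, sub_eq_zero]
  have hcongr : ∀ {g a b}, g ∈ normalizer (E : Set G) → a ∈ X → b ∈ X → crd a = crd b →
      crd (g * a * g⁻¹) = crd (g * b * g⁻¹) := fun {g a b} hg ha hb h => by
    rw [heqX (hconjX hg ha) (hconjX hg hb), show g * a * g⁻¹ * (g * b * g⁻¹)⁻¹ = g * (a * b⁻¹) * g⁻¹ by group]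
    exact (mem_normalizer_iff.1 (LocalEven64.le_normalizer_centralizer le_rfl hg) _).1 ((heqX ha hb).1 h)
  have hE' : ∀ (e : E) {x}, x ∈ X → crd ((e : G) * x * (e : G)⁻¹) = fun j => crd x ((ρ e)⁻¹ j) := by
    intro e x hx
    obtain ⟨w, hw, hw'⟩ := heq e ⟨x, hM.le_omega hx⟩
    rw [← hw, hc w, hc ⟨x, hM.le_omega hx⟩]
    exact funext hw'
  choose l hlX hl using hsurjX
  -- permutation of an element
  have hperm : ∀ g ∈ normalizer (E : Set G), ∃ π : Equiv.Perm (Fin (2 * m + 1)),
      ∀ i, crd (g * l i * g⁻¹) = coVec (π i) := by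
    intro g hg
    have h1 : ∀ i, ∃ k, crd (g * l i * g⁻¹) = coVec k := by
      intro i
      refine eq_coVec hm ?_ ?_ (Set.range fun j => crd (g * l j * g⁻¹)) ?_ ?_
      · rw [hc ⟨_, hM.le_omega (hconjX hg (hlX i))⟩]; exact hsum _
      · intro h
        rw [hkerX (hconjX hg (hlX i))] at h
        have := (mem_normalizer_iff.1 (LocalEven64.le_normalizer_centralizer le_rfl hg) (l i)).2 h
        rw [← hkerX (hlX i), hl] at this
        have h' := congrFun this (i + 1)
        simp [coVec] at h'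
        omega
      · exact (Finite.card_range_le _).trans (le_of_eq (Nat.card_fin _))
      · intro σ hσ
        obtain ⟨e, rfl⟩ := (hρ.symm ▸ hσ : σ ∈ ρ.range)
        have he' : g⁻¹ * (e : G) * g ∈ E := by
          simpa using (mem_normalizer_iff.1 (inv_mem hg) (e : G)).1 e.2
        rw [← hE' e (hconjX hg (hlX i))]
        refine ⟨ρ ⟨_, he'⟩ i, ?_⟩
        show crd (g * l (ρ ⟨_, he'⟩ i) * g⁻¹) = _
        rw [show (e : G) * (g * l i * g⁻¹) * (e : G)⁻¹ =
          g * (g⁻¹ * (e : G) * g * l i * (g⁻¹ * (e : G) * g)⁻¹) * g⁻¹ by group]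
        refine hcongr hg (hlX _) (hconjX (le_normalizer he') (hlX i)) ?_
        rw [hE' ⟨_, he'⟩ (hlX i), hl, hl]
        funext j
        simp [coVec, Equiv.Perm.inv_def, Equiv.symm_apply_eq]
    choose π hπ using h1
    have hinj : Function.Injective π := fun i j h => by
      have h2 : crd (g * l i * g⁻¹) = crd (g * l j * g⁻¹) := by rw [hπ, hπ, h]
      have h3 := hcongr (inv_mem hg) (hconjX hg (hlX i)) (hconjX hg (hlX j)) h2
      rw [show g⁻¹ * (g * l i * g⁻¹) * g⁻¹⁻¹ = l i by group,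
        show g⁻¹ * (g * l j * g⁻¹) * g⁻¹⁻¹ = l j by group, hl, hl] at h3
      exact coVec_injective h3
    exact ⟨Equiv.ofBijective π (Finite.injective_iff_bijective.1 hinj), hπ⟩
  obtain ⟨π, hπ⟩ := hperm f hf
  have hpow : ∀ (k : ℕ) i, crd (f ^ k * l i * (f ^ k)⁻¹) = coVec ((π ^ k) i) := by
    intro k
    induction k with
    | zero => intro i; simp [hl]
    | succ k ih =>
      intro i
      rw [pow_succ', show f * f ^ k * l i * (f * f ^ k)⁻¹ = f * (f ^ k * l i * (f ^ k)⁻¹) * f⁻¹ by group,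
        hcongr hf (hconjX (pow_mem hf k) (hlX i)) (hlX ((π ^ k) i)) ((ih i).trans (hl _).symm), hπ,
        pow_succ', Equiv.Perm.mul_apply]
  have hπo : π ^ orderOf f = 1 := Equiv.ext fun i => coVec_injective (by
    rw [← hpow, pow_orderOf_eq_one]; simp [hl])
  have halt : π ∈ alternatingGroup (Fin (2 * m + 1)) := by
    rw [Equiv.Perm.mem_alternatingGroup]
    rcases Int.units_eq_one_or (Equiv.Perm.sign π) with h | h
    · exact h
    · have := congrArg Equiv.Perm.sign hπo
      rw [map_pow, h, map_one, hodd.neg_one_pow] at this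
      exact absurd this (by decide)
  obtain ⟨e, he⟩ := (hρ.symm ▸ halt : π ∈ ρ.range)
  -- `f` and `e` agree on every coordinate
  have hN : (e : G)⁻¹ * f ∈ normalizer (E : Set G) := mul_mem (inv_mem (le_normalizer e.2)) hf
  have hagree : ∀ x ∈ X, crd (f * x * f⁻¹) = crd ((e : G) * x * (e : G)⁻¹) := by
    intro x hx
    have key : ∀ (s : Finset (Fin (2 * m + 1))), ∃ y ∈ X, crd y = ∑ i ∈ s, coVec i ∧
        crd (f * y * f⁻¹) = crd ((e : G) * y * (e : G)⁻¹) := by
      intro s
      induction s using Finset.induction with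
      | empty =>
        refine ⟨1, one_mem _, ?_, by simp⟩
        rw [Finset.sum_empty]; exact hzero (one_mem _) (one_mem _)
      | insert a s has ih =>
        obtain ⟨y, hy, hyc, hyf⟩ := ih
        refine ⟨l a * y, mul_mem (hlX a) hy, by rw [hmul (hM.le_omega (hlX a)) (hM.le_omega hy), hl, hyc,
          Finset.sum_insert has], ?_⟩
        rw [show f * (l a * y) * f⁻¹ = f * l a * f⁻¹ * (f * y * f⁻¹) by group,
          show (e : G) * (l a * y) * (e : G)⁻¹ = (e : G) * l a * (e : G)⁻¹ * ((e : G) * y * (e : G)⁻¹) by group,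
          hmul (hM.le_omega (hconjX hf (hlX a))) (hM.le_omega (hconjX hf hy)),
          hmul (hM.le_omega (hconjX (le_normalizer e.2) (hlX a))) (hM.le_omega (hconjX (le_normalizer e.2) hy)),
          hyf, hπ, hE' e (hlX a), hl, he]
        congr 1
        funext j
        simp [coVec, Equiv.Perm.inv_def, Equiv.symm_apply_eq]
    obtain ⟨y, hy, hyc, hyf⟩ := key (Finset.univ.filter fun i => crd x i = 1)
    have hxy : crd x = crd y := by
      rw [hyc]
      funext j
      rw [Finset.sum_apply, Finset.sum_filter]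
      have hs : ∑ i, crd x i = 0 := by rw [hc ⟨x, hM.le_omega hx⟩]; exact hsum _
      have h01 : ∀ a b : ZMod 2, (if a = 1 then b else 0) = a * b := by decide
      simp only [h01]
      have : ∀ i, crd x i * coVec i j = crd x i - (if j = i then crd x i else 0) := fun i => by
        unfold coVec; split <;> simp
      simp_rw [this, Finset.sum_sub_distrib, hs]
      simp
    rw [hcongr hf hx hy hxy, hcongr (le_normalizer e.2) hx hy hxy, hyf]
  have hcent : (e : G)⁻¹ * f ∈ centralizer (X : Set G) := by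
    refine centralizes_of_mod hG hE hEs hN fun x hx => ?_
    rw [commutatorElement_def, ← heqX (hconjX hN hx) hx]
    have := hcongr (inv_mem (le_normalizer e.2)) (hconjX hf hx) (hconjX (le_normalizer e.2) hx) (hagree x hx)
    rw [show (e : G)⁻¹ * (f * x * f⁻¹) * (e : G)⁻¹⁻¹ = (e : G)⁻¹ * f * x * ((e : G)⁻¹ * f)⁻¹ by group,
      show (e : G)⁻¹ * ((e : G) * x * (e : G)⁻¹) * (e : G)⁻¹⁻¹ = x by group] at this
    exact this
  have := mul_mem (mem_sup_left (T := centralizer (X : Set G)) e.2) (mem_sup_right (S := E) hcent)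
  rwa [mul_inv_cancel_left] at this

end Cfsg.Agent.LAE65.Normal
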