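import Cfsg.Agent.LAE65.Normal.Plane
import Cfsg.Agent.LAE65.Normal.PermPlane
import Cfsg.Agent.LAE65.Normal.Commute
import Cfsg.Agent.LAE65.Pair.Main

/-!
A block normalising a subnormal block acts on its module as a subgroup of that block.
-/

set_option autoImplicit false
set_option linter.style.haveILetI false
set_option linter.unusedSectionVars false
set_option maxHeartbeats 800000

open Subgroup Cfsg Matrix
open scoped commutatorElement MatrixGroups Pointwise

namespace Cfsg.Agent.LAE65.Normal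

open Block

variable {G : Type*} [Group G] [Finite G] {p : ℕ} [hp : Fact p.Prime] {E F : Subgroup G}
  {U : Sylow p G}

/-- `[V, E]`. -/
local notation "𝐗" E => ⁅omegaOneCenter p (pCore p G), (E : Subgroup G)⁆

theorem two_pow_six : ∀ M N : Matrix (Fin 2) (Fin 2) (ZMod 2), M * N = 1 → M ^ 6 = 1 := by
  decide +kernel

theorem three_pow_twelve : ∀ M : Matrix (Fin 2) (Fin 2) (ZMod 3), M.det = 1 → M ^ 12 = 1 := by
  decide +kernel

variable (hG : centralizer (pCore p G : Set G) ≤ pCore p G)
  (hE : IsBaumannBlock p (U : Subgroup G) E) (hEs : E.IsSubnormal)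
  (hF : IsBaumannBlock p (U : Subgroup G) F) (hFN : F ≤ normalizer (E : Set G))

include hG hE hEs hF hFN

theorem le_sup_of_plane {K : Type} [Field K] [Fintype K] [CharP K p] (D : Plane p E K) :
    F ≤ E ⊔ centralizer ((𝐗 E : Subgroup G) : Set G) := by
  set N := normalizer (E : Set G) with hN
  set M0 := E ⊔ (centralizer ((𝐗 E : Subgroup G) : Set G) ⊓ N) with hM0
  have hXn : N ≤ normalizer (((𝐗 E) : Subgroup G) : Set G) := fun g hg => by
    rw [mem_normalizer_iff_map, module_map, mem_normalizer_iff_map.1 hg]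
  have hn : N ≤ normalizer (M0 : Set G) :=
    LocalEven62.le_normalizer_sup le_rfl
      (LocalEven64.le_normalizer_inf (LocalEven64.le_normalizer_centralizer hXn) le_normalizer)
  calc F = ⁅F, baumannSubgroupOf p (U : Subgroup G)⁆ := hF.2.1.symm
    _ ≤ ⁅F, M0⁆ := commutator_mono le_rfl (baumann_le_sup hG hE hEs D)
    _ ≤ M0 := le_normalizer_iff_commutator_le_right.1 (hFN.trans hn)
    _ ≤ _ := sup_le_sup_left inf_le_left _

theorem le_sup_of_small (hs : Pair.Small p E) : F ≤ E ⊔ centralizer ((𝐗 E : Subgroup G) : Set G) := by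
  obtain ⟨S⟩ := hs.secX
  set N := normalizer (E : Set G) with hN
  have hA : ∀ {g}, g ∈ N → g ∈ normalizer ((Pair.blockModule p E : Subgroup G) : Set G) := fun {g} hg => by
    rw [mem_normalizer_iff_map]
    exact (module_map E g).trans (by rw [mem_normalizer_iff_map.1 hg])
  have hB : ∀ g : G, g ∈ normalizer ((⊥ : Subgroup G) : Set G) := Pair.normalizer_bot'
  refine le_of_coprime hF.1 fun f hf hfp => ?_
  have hfN := hFN hf
  have hinR : Pair.InR p (S.mat f) := by
    have hord : S.mat f ^ orderOf f = 1 := by rw [← S.mat_pow (hA hfN) (hB f), pow_orderOf_eq_one, S.mat_one]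
    rcases hs.two_or_three with rfl | rfl
    · refine Pair.two_of_cube _ ?_
      obtain ⟨d, hd⟩ : Nat.gcd (orderOf f) 6 ∣ 3 := by
        refine (Nat.Coprime.dvd_of_dvd_mul_left (k := Nat.gcd (orderOf f) 6) (n := 3) (m := 2) ?_ ?_)
        · exact hfp.coprime_dvd_left (Nat.gcd_dvd_left _ _)
        · exact Nat.gcd_dvd_right _ _
      have h6 : S.mat f ^ 6 = 1 := two_pow_six _ (S.mat f⁻¹) (by
        rw [← S.mat_mul (hA hfN) (hB f) (hA (inv_mem hfN)) (hB _), mul_inv_cancel, S.mat_one])
      rw [hd, pow_mul, pow_gcd_eq_one.2 ⟨hord, h6⟩, one_pow]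
    · have hdet : ∀ {g h}, g ∈ N → h ∈ N → (S.mat (g * h)).det = (S.mat g).det * (S.mat h).det :=
        fun {g h} hg hh => by rw [S.mat_mul (hA hg) (hB g) (hA hh) (hB h), Matrix.det_mul]
      let D1 : Subgroup G :=
        { carrier := {g | g ∈ N ∧ (S.mat g).det = 1}
          one_mem' := ⟨one_mem _, by rw [S.mat_one, Matrix.det_one]⟩
          mul_mem' := fun {a b} ha hb => ⟨mul_mem ha.1 hb.1, by rw [hdet ha.1 hb.1, ha.2, hb.2, one_mul]⟩
          inv_mem' := fun {a} ha => ⟨inv_mem ha.1, by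
            have := hdet (inv_mem ha.1) ha.1
            rw [inv_mul_cancel, S.mat_one, Matrix.det_one, ha.2, mul_one] at this
            exact this.symm⟩ }
      have hbD : ∀ b ∈ baumannSubgroupOf 3 (U : Subgroup G), b ∈ D1 := by
        intro b hb
        have hbN := baumann_le_normalizer hG hE hEs U hb
        refine ⟨hbN, ?_⟩
        obtain ⟨n, hn⟩ := U.isPGroup' ⟨b, baumann_le _ hb⟩
        refine eq_one_of_pow_prime_pow (p := 3) (a := n) ?_
        rw [← Matrix.det_pow, ← S.mat_pow (hA hbN) (hB b), show b ^ 3 ^ n = 1 by simpa using congrArg Subtype.val hn,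
          S.mat_one, Matrix.det_one]
      have hFD : ⁅F, baumannSubgroupOf 3 (U : Subgroup G)⁆ ≤ D1 := by
        rw [commutator_le]
        intro g hg b hb
        obtain ⟨hbN, hbd⟩ := hbD b hb
        have hgN := hFN hg
        refine ⟨mul_mem (mul_mem (mul_mem hgN hbN) (inv_mem hgN)) (inv_mem hbN), ?_⟩
        rw [commutatorElement_def, hdet (mul_mem (mul_mem hgN hbN) (inv_mem hgN)) (inv_mem hbN),
          hdet (mul_mem hgN hbN) (inv_mem hgN), hdet hgN hbN,
          (D1.inv_mem ⟨hbN, hbd⟩).2, hbd, mul_one, mul_one, ← hdet hgN (inv_mem hgN), mul_inv_cancel,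
          S.mat_one, Matrix.det_one]
      rw [hF.2.1] at hFD
      have hd1 : (S.mat f).det = 1 := (hFD hf).2
      refine ⟨hd1, ?_⟩
      obtain ⟨d, hd⟩ : Nat.gcd (orderOf f) 12 ∣ 4 := by
        refine (Nat.Coprime.dvd_of_dvd_mul_left (k := Nat.gcd (orderOf f) 12) (n := 4) (m := 3) ?_ ?_)
        · exact hfp.coprime_dvd_left (Nat.gcd_dvd_left _ _)
        · exact Nat.gcd_dvd_right _ _
      show S.mat f ^ 4 = 1
      rw [hd, pow_mul, pow_gcd_eq_one.2 ⟨hord, three_pow_twelve _ hd1⟩, one_pow]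
  obtain ⟨e, he, hef⟩ := S.rep_surj _ hinR
  have hei : e⁻¹ * f ∈ N := mul_mem (inv_mem (le_normalizer he)) hfN
  have h1 : S.mat (e⁻¹ * f) = 1 := by
    rw [S.mat_mul (S.normA (inv_mem he)) (hB _) (hA hfN) (hB f), ← hef, ← S.mat_eq_rep he,
      ← S.mat_mul (S.normA (inv_mem he)) (hB _) (S.normA he) (hB _), inv_mul_cancel, S.mat_one]
  have hc : e⁻¹ * f ∈ centralizer ((𝐗 E : Subgroup G) : Set G) := mem_centralizer_iff.2 fun x hx => by
    have := mem_bot.1 ((S.mat_eq_one_iff (hA hei) (hB _)).1 h1 x hx)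
    exact (mul_inv_eq_iff_eq_mul.1 (mul_inv_eq_one.1 this)).symm
  have := mul_mem (mem_sup_left (T := centralizer ((𝐗 E : Subgroup G) : Set G)) he) (mem_sup_right (S := E) hc)
  rwa [mul_inv_cancel_left] at this

/-- A block normalising a subnormal block acts on its module as a subgroup of that block. -/
theorem le_sup_centralizer : F ≤ E ⊔ centralizer ((𝐗 E : Subgroup G) : Set G) := by
  classical
  have hf := moduleFacts hG hE
  rcases hE.2.2.2.2 with ⟨K, _, _, n, hn, hiso, hact, halt⟩ | ⟨hp2, m, hiso, hact, hq⟩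
  · haveI : CharP K p := charP_of_card_eq_prime_pow (f := n) hn
    by_cases hK : 4 ≤ Fintype.card K
    · have htop : commutator SL(2, K) = ⊤ := LAE62.perfect_or_small.resolve_right fun h => by
        have h3 : Fintype.card K ≤ 3 := by
          have : (Finset.univ : Finset K) ⊆ {0, 1, -1} := fun t _ => by
            rcases h t with rfl | rfl | rfl <;> simp
          exact (Finset.card_le_card this).trans Finset.card_le_three
        omega
      set W := omegaOneCenter p (pCoreOf p E) with hW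
      obtain ⟨-, -, ρ, ψ, hρ, hψ, hker, heq⟩ := hact
      let crd : G → Fin 2 → K :=
        Function.extend Subtype.val (fun u : ↥W => fun i => Multiplicative.toAdd (ψ u) i) 0
      have hc : ∀ u : W, crd u = Multiplicative.toAdd (ψ u) := fun u => Subtype.val_injective.extend_apply _ _ _
      have hmul : ∀ {a b}, a ∈ W → b ∈ W → crd (a * b) = crd a + crd b := fun {a b} ha hb => by
        have := hc (⟨a, ha⟩ * ⟨b, hb⟩)
        rw [map_mul, toAdd_mul, ← hc, ← hc] at this
        exact this
      refine le_sup_of_plane hG hE hEs hF hFN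
        { crd := crd
          crd_mul := fun ha hb => hmul (hf.le_omega ha) (hf.le_omega hb)
          crd_surj := fun v => ?_
          crd_ker := fun {a} ha => ?_
          realize := fun M => ?_
          matE := fun e he => ?_ }
      · obtain ⟨u, hu⟩ := hψ (Multiplicative.ofAdd v)
        have hnX : (𝐗 E) ≤ normalizer ((W ⊓ centralizer (E : Set G) : Subgroup G) : Set G) :=
          hf.le_omega.trans ((Thompson.le_centralizer_self (isElementaryAbelian_omegaOneCenter (p := p) (pCoreOf p E)).1).trans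
            ((centralizer_le (inf_le_left (b := centralizer (E : Set G)))).trans (centralizer_le_normalizer _)))
        have h2 : (u : G) ∈ (((𝐗 E : Subgroup G) : Set G) * ((W ⊓ centralizer (E : Set G) : Subgroup G) : Set G)) := by
          rw [← coe_mul_of_left_le_normalizer_right _ _ hnX]; exact hf.sup_eq u.2
        obtain ⟨x, hx, z, hz, hxz⟩ := Set.mem_mul.1 h2
        refine ⟨x, hx, ?_⟩
        have h3 := hmul (hf.le_omega hx) hz.1
        rw [hxz, hc u, hu, hc ⟨z, hz.1⟩, (hker ⟨z, hz.1⟩).2 hz] at h3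
        simpa using h3.symm
      · rw [hc ⟨a, hf.le_omega ha⟩]
        refine ⟨fun h => ((hker ⟨a, hf.le_omega ha⟩).1 (Multiplicative.toAdd.injective h)).2, fun h => ?_⟩
        rw [(hker ⟨a, hf.le_omega ha⟩).2 ⟨hf.le_omega ha, h⟩]; rfl
      · obtain ⟨e, rfl⟩ := (hρ.symm ▸ htop.symm ▸ mem_top M : M ∈ ρ.range)
        refine ⟨e, e.2, fun x hx => ?_⟩
        obtain ⟨w, hw, hw'⟩ := heq e ⟨x, hf.le_omega hx⟩
        rw [← hw, hc w, hc ⟨x, hf.le_omega hx⟩]
        exact hw'
      · refine ⟨ρ ⟨e, he⟩, fun x hx => ?_⟩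
        obtain ⟨w, hw, hw'⟩ := heq ⟨e, he⟩ ⟨x, hf.le_omega hx⟩
        rw [← hw, hc w, hc ⟨x, hf.le_omega hx⟩]
        exact hw'
    refine le_sup_of_small hG hE hEs hF hFN ?_
    have h1 : 1 < Fintype.card K := Fintype.one_lt_card
    have hn0 : n ≠ 0 := fun h => by rw [h, pow_zero] at hn; omega
    have hle : p ≤ Fintype.card K := hn ▸ Nat.le_self_pow hn0 p
    have hp2 := hp.out.two_le
    have hp23 : p = 2 ∨ p = 3 := by omega
    have hn1 : n = 1 := by
      by_contra h
      have : p ^ 2 ≤ Fintype.card K := hn ▸ Nat.pow_le_pow_right hp.out.pos (by omega)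
      nlinarith
    refine Pair.small_of_sl hG hE hEs (by rw [hn, hn1, pow_one]) hp23 hiso hact ?_
    rcases halt with h | ⟨h3, hactQ, hder, -, hZ, -, hb⟩
    · exact Or.inl h
    · exact Or.inr ⟨h3, hactQ, hder, hZ, hb⟩
  · by_cases hm : 2 ≤ m
    · refine le_of_coprime hF.1 fun f hf' hfp => mem_sup_of_perm hm hG hE hEs hact (hFN hf') ?_
      subst hp2
      exact (Nat.coprime_two_right).1 hfp
    refine le_sup_of_small hG hE hEs hF hFN ?_
    obtain rfl | rfl : m = 0 ∨ m = 1 := by omega
    · exfalso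
      refine Pair.eq_bot_of_le_core hE fun e he => ?_
      obtain ⟨iso⟩ := hiso
      haveI : Subsingleton (Fin (2 * 0 + 1)) := inferInstanceAs (Subsingleton (Fin 1))
      haveI : Subsingleton ↥(alternatingGroup (Fin (2 * 0 + 1))) :=
        ⟨fun a b => Subtype.ext (Subsingleton.elim _ _)⟩
      have : Subsingleton (↥E ⧸ pCore p ↥E) := iso.toEquiv.subsingleton
      exact ⟨⟨e, he⟩, (QuotientGroup.eq_one_iff _).1 (Subsingleton.elim _ _), rfl⟩
    · exact Pair.small_of_alt3 hG hE hEs hp2 hiso hact hq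

end Cfsg.Agent.LAE65.Normal
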