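import Cfsg.Agent.LAE65.BlockCenter
import Cfsg.Agent.LocalEven62.Basic

/-!
Fixed points of `p`-groups on the module of a subnormal block.
-/

set_option autoImplicit false
set_option linter.style.haveILetI false
set_option linter.unusedSectionVars false

open Subgroup Cfsg
open scoped commutatorElement IsMulCommutative

namespace Cfsg.Agent.LAE65.Normal

variable {G : Type*} [Group G] [Finite G] {p : ℕ} [hp : Fact p.Prime]

/-- If some Sylow group fixes a point of `V` moved by `E`, every `p`-group normalising `E` fixes a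
point of `[V, E]` moved by `E`. -/
theorem exists_fixed {E : Subgroup G} (hEs : E.IsSubnormal) {T : Sylow p G} {z : G}
    (hzV : z ∈ omegaOneCenter p (pCore p G)) (hzT : ∀ s ∈ (T : Subgroup G) ⊓ E, s * z = z * s)
    (hzE : z ∉ centralizer (E : Set G)) (T' : Sylow p G) :
    ∃ x ∈ ⁅omegaOneCenter p (pCore p G), E⁆, x ∉ centralizer (E : Set G) ∧
      ∀ t ∈ (T' : Subgroup G), t ∈ normalizer (E : Set G) → t * x * t⁻¹ = x := by
  classical
  set V := omegaOneCenter p (pCore p G) with hVdef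
  have hVel : IsElementaryAbelian p V := Block.isElementaryAbelian_omegaOneCenter _
  haveI : IsMulCommutative V := hVel.1
  have hVn : ∀ g : G, g ∈ normalizer (V : Set G) := fun g => Block.le_normalizer_omegaPCore ⊤ (mem_top g)
  have hconjV : ∀ g : G, ∀ {v}, v ∈ V → g * v * g⁻¹ ∈ V := fun g {v} hv =>
    (mem_normalizer_iff.1 (hVn g) v).1 hv
  have hS0 := LocalEven62.IsSyl.inf_subnormal T' hEs
  obtain ⟨e₀, he₀, heS⟩ := hS0.exists_conj_eq (LocalEven62.IsSyl.inf_subnormal T hEs)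
  set S0 := (T' : Subgroup G) ⊓ E with hS0def
  set v₀ := e₀ * z * e₀⁻¹ with hv₀
  have hv₀S : ∀ s ∈ S0, s * v₀ = v₀ * s := by
    intro s hs
    rw [← heS] at hs
    obtain ⟨r, hr, rfl⟩ := hs
    show e₀ * r * e₀⁻¹ * (e₀ * z * e₀⁻¹) = e₀ * z * e₀⁻¹ * (e₀ * r * e₀⁻¹)
    calc e₀ * r * e₀⁻¹ * (e₀ * z * e₀⁻¹) = e₀ * (r * z) * e₀⁻¹ := by group
      _ = e₀ * (z * r) * e₀⁻¹ := by rw [hzT r hr]
      _ = _ := by group
  have hv₀E : v₀ ∉ centralizer (E : Set G) := fun h => hzE (by
    have hn := (LocalEven64.le_normalizer_centralizer (le_normalizer (H := E))) (inv_mem he₀)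
    have h' := (mem_normalizer_iff.1 hn _).1 h
    simpa [hv₀, mul_assoc] using h')
  -- the transfer map
  let S' : Subgroup ↥E := S0.subgroupOf E
  letI : Fintype (↥E ⧸ S') := Fintype.ofFinite _
  set k := Fintype.card (↥E ⧸ S') with hk
  have hkp : k.Coprime p := by
    have := hS0.not_dvd
    rw [relIndex, index_eq_card, Nat.card_eq_fintype_card] at this
    exact (hp.out.coprime_iff_not_dvd.2 this).symm
  let CV : Subgroup V := (centralizer (S0 : Set G)).subgroupOf V
  have hrep : ∀ (v : CV) (e e' : ↥E), (QuotientGroup.mk e : ↥E ⧸ S') = QuotientGroup.mk e' →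
      (e : G) * (v : V) * (e : G)⁻¹ = (e' : G) * (v : V) * (e' : G)⁻¹ := by
    intro v e e' h
    have hs : ((e⁻¹ * e' : ↥E) : G) ∈ S0 := (QuotientGroup.eq.1 h :)
    have hc := mem_centralizer_iff.1 v.2 _ hs
    rw [Subgroup.coe_mul, Subgroup.coe_inv, Subgroup.coe_subtype] at hc
    calc (e : G) * (v : V) * (e : G)⁻¹
        = (e : G) * ((v : V) * ((e : G)⁻¹ * (e' : G))) * (e' : G)⁻¹ := by group
      _ = (e : G) * (((e : G)⁻¹ * (e' : G)) * (v : V)) * (e' : G)⁻¹ := by rw [hc]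
      _ = (e' : G) * (v : V) * (e' : G)⁻¹ := by group
  let f : (↥E ⧸ S') → CV → V := fun q v =>
    ⟨(q.out : G) * (v : V) * (q.out : G)⁻¹, hconjV _ (v : V).2⟩
  let Nm : CV →* V :=
    { toFun := fun v => ∏ q : ↥E ⧸ S', f q v
      map_one' := Finset.prod_eq_one fun q _ => Subtype.ext (by simp [f])
      map_mul' := fun v w => by
        rw [← Finset.prod_mul_distrib]
        refine Finset.prod_congr rfl fun q _ => Subtype.ext ?_
        simp only [f, Subgroup.coe_mul]
        group }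
  have hNme : ∀ (v : CV) (e : ↥E), (e : G) * (Nm v : V) * (e : G)⁻¹ = (Nm v : V) := by
    intro v e
    let c : V →* V :=
      { toFun := fun x => ⟨(e : G) * x * (e : G)⁻¹, hconjV _ x.2⟩
        map_one' := Subtype.ext (by simp)
        map_mul' := fun x y => Subtype.ext (by simp [mul_assoc]) }
    show ((c (Nm v) : V) : G) = _
    congr 1
    show c (∏ q, f q v) = _
    rw [map_prod]
    refine Fintype.prod_equiv (MulAction.toPerm e) _ _ fun q => Subtype.ext ?_
    show (e : G) * ((q.out : G) * (v : V) * (q.out : G)⁻¹) * (e : G)⁻¹ =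
      ((MulAction.toPerm e q).out : G) * (v : V) * ((MulAction.toPerm e q).out : G)⁻¹
    rw [hrep v (MulAction.toPerm e q).out (e * q.out) (by
      rw [QuotientGroup.out_eq', MulAction.toPerm_apply, ← smul_eq_mul, ← MulAction.Quotient.smul_mk,
        QuotientGroup.out_eq']), Subgroup.coe_mul]
    group
  have hNmC : ∀ v : CV, ((Nm v : V) : G) ∈ centralizer (E : Set G) := fun v =>
    mem_centralizer_iff.2 fun e he => mul_inv_eq_iff_eq_mul.1 (hNme v ⟨e, he⟩)
  let X : Subgroup V := (⁅V, E⁆).subgroupOf V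
  have hpow : ∀ v : CV, ((v : V) ^ k * (Nm v)⁻¹ : V) ∈ X := by
    intro v
    have : ((v : V) ^ k * (Nm v)⁻¹ : V) = ∏ q : ↥E ⧸ S', ((v : V) * (f q v)⁻¹) := by
      rw [Finset.prod_mul_distrib, Finset.prod_const, Finset.card_univ, Finset.prod_inv_distrib]
      rfl
    rw [this]
    refine Subgroup.prod_mem _ fun q _ => ?_
    show ((v : V) : G) * ((q.out : G) * (v : V) * (q.out : G)⁻¹)⁻¹ ∈ ⁅V, E⁆
    rw [show ((v : V) : G) * ((q.out : G) * (v : V) * (q.out : G)⁻¹)⁻¹ = ⁅((v : V) : G), (q.out : G)⁆ by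
      rw [commutatorElement_def]; group]
    exact commutator_mem_commutator (v : V).2 q.out.2
  have hfix : ∀ v : CV, ((v : V) : G) ∈ centralizer (E : Set G) → Nm v = (v : V) ^ k := by
    intro v hv
    show ∏ q, f q v = _
    rw [Finset.prod_eq_pow_card (b := (v : V)), Finset.card_univ]
    intro q _
    refine Subtype.ext ?_
    show (q.out : G) * (v : V) * (q.out : G)⁻¹ = (v : V)
    rw [mem_centralizer_iff.1 hv _ q.out.2, mul_inv_cancel_right]
  -- the kernel of the transfer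
  let K : Subgroup G := (Nm.ker.map CV.subtype).map V.subtype
  have hKmem : ∀ v : CV, Nm v = 1 → ((v : V) : G) ∈ K := fun v hv => ⟨(v : V), ⟨v, hv, rfl⟩, rfl⟩
  have hKne : K ≠ ⊥ := by
    intro hK
    let v : CV := ⟨⟨v₀, hconjV _ hzV⟩, mem_centralizer_iff.2 hv₀S⟩
    have hNv : ((Nm v : V) : G) ∈ centralizer (S0 : Set G) :=
      centralizer_le (inf_le_right (a := (T' : Subgroup G))) (hNmC v)
    let N : CV := ⟨Nm v, hNv⟩
    have hw : Nm (v ^ k * N⁻¹) = 1 := by
      rw [map_mul, map_pow, map_inv, hfix N (hNmC v)]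
      exact mul_inv_cancel _
    have h1 := hKmem _ hw
    rw [hK, mem_bot] at h1
    have h2 : v₀ ^ k ∈ centralizer (E : Set G) := by
      have h1' : v₀ ^ k * ((Nm v : V) : G)⁻¹ = 1 := by simpa [N, v] using h1
      rw [mul_inv_eq_one.1 h1']
      exact hNmC v
    have hvp : v₀ ^ p = 1 := hVel.2 _ (hconjV _ hzV)
    apply hv₀E
    obtain ⟨m, hm⟩ := exists_pow_eq_self_of_coprime
      (hkp.coprime_dvd_right (orderOf_dvd_of_pow_eq_one hvp))
    rw [← hm]
    exact pow_mem h2 m
  let S : Subgroup G := (T' : Subgroup G) ⊓ normalizer (E : Set G)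
  have hSn : ∀ t ∈ S, t ∈ normalizer (S0 : Set G) := fun t ht =>
    (le_inf ((inf_le_left : S ≤ _).trans le_normalizer) (inf_le_right : S ≤ _)).trans
      inf_normalizer_le_normalizer_inf ht
  have hSK : ∀ t ∈ S, ∀ y ∈ K, t * y * t⁻¹ ∈ K := by
    rintro t ht _ ⟨_, ⟨v, hv, rfl⟩, rfl⟩
    have htE : t ∈ normalizer (E : Set G) := ht.2
    let v' : CV := ⟨⟨t * (v : V) * t⁻¹, hconjV _ (v : V).2⟩,
      (mem_normalizer_iff.1 (LocalEven64.le_normalizer_centralizer le_rfl (hSn t ht)) _).1 v.2⟩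
    refine hKmem v' ?_
    let c : V →* V :=
      { toFun := fun x => ⟨t * x * t⁻¹, hconjV _ x.2⟩
        map_one' := Subtype.ext (by simp)
        map_mul' := fun x y => Subtype.ext (by simp [mul_assoc]) }
    have hc : Nm v' = c (Nm v) := by
      show _ = c (∏ q, f q v)
      rw [map_prod]
      let φ : ↥E ≃* ↥E := (E.equivMapOfInjective (MulAut.conj t).toMonoidHom
        (MulAut.conj t).injective).trans (MulEquiv.subgroupCongr (mem_normalizer_iff_map.1 htE))
      have hφ : ∀ e : ↥E, ((φ e : ↥E) : G) = t * e * t⁻¹ := fun e => rfl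
      have hφS : S'.map φ.toMonoidHom = S' := by
        refine Subgroup.ext fun e => ⟨?_, fun he => ?_⟩
        · rintro ⟨s, hs, rfl⟩
          show ((φ s : ↥E) : G) ∈ S0
          rw [hφ]
          exact (mem_normalizer_iff.1 (hSn t ht) _).1 hs
        · refine ⟨φ.symm e, ?_, φ.apply_symm_apply e⟩
          show ((φ.symm e : ↥E) : G) ∈ S0
          rw [mem_normalizer_iff.1 (hSn t ht), ← hφ, φ.apply_symm_apply]
          exact he
      let ψ : (↥E ⧸ S') ≃ (↥E ⧸ S') := Quotient.congr φ.toEquiv fun a b => by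
        rw [QuotientGroup.leftRel_apply, QuotientGroup.leftRel_apply]
        show a⁻¹ * b ∈ S' ↔ (φ a)⁻¹ * φ b ∈ S'
        rw [← map_inv, ← map_mul]
        conv_rhs => rw [← hφS]
        exact ⟨fun h => ⟨_, h, rfl⟩, fun ⟨y, hy, hyx⟩ => φ.injective hyx ▸ hy⟩
      have hψ : ∀ e : ↥E, ψ (QuotientGroup.mk e) = QuotientGroup.mk (φ e) := fun e => rfl
      refine (Fintype.prod_equiv ψ _ _ fun q => Subtype.ext ?_).symm
      show t * ((q.out : G) * (v : V) * (q.out : G)⁻¹) * t⁻¹ =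
        ((ψ q).out : G) * (t * (v : V) * t⁻¹) *
          ((ψ q).out : G)⁻¹
      have h := hrep v' (ψ q).out (φ q.out) (by
        rw [← hψ, QuotientGroup.out_eq', QuotientGroup.out_eq'])
      rw [show (((v' : CV) : V) : G) = t * (v : V) * t⁻¹ from rfl] at h
      rw [h, hφ]
      group
    rw [hc, show Nm v = 1 from hv, map_one]
  obtain ⟨x, hxK, hx1, hxfix⟩ := exists_fixed_point (S := S) (K := K) (T'.isPGroup'.to_inf_left)
    ((Thompson.isPGroup_of_isElementaryAbelian hVel).to_le (map_subtype_le _)) hKne hSK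
  obtain ⟨_, ⟨v, hv, rfl⟩, rfl⟩ := hxK
  have hxp : ((v : V) : G) ^ p = 1 := hVel.2 _ (v : V).2
  obtain ⟨m, hm⟩ := exists_pow_eq_self_of_coprime
    (hkp.coprime_dvd_right (orderOf_dvd_of_pow_eq_one hxp))
  refine ⟨_, ?_, ?_, fun t ht htE => hxfix t ⟨ht, htE⟩⟩
  · show ((v : V) : G) ∈ ⁅V, E⁆
    have := hpow v
    rw [show Nm v = 1 from hv, inv_one, mul_one] at this
    rw [← hm]
    exact pow_mem this m
  · intro h
    apply hx1
    have := hfix v h
    rw [show Nm v = 1 from hv] at this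
    show ((v : V) : G) = 1
    rw [← hm, ← SubgroupClass.coe_pow, ← this, Subgroup.coe_one, one_pow]
where
  exists_fixed_point {S K : Subgroup G} (hS : IsPGroup p S) (hK : IsPGroup p K) (hne : K ≠ ⊥)
      (hSK : ∀ t ∈ S, ∀ y ∈ K, t * y * t⁻¹ ∈ K) : ∃ x ∈ K, x ≠ 1 ∧ ∀ t ∈ S, t * x * t⁻¹ = x := by
    letI : MulAction ↥S ↥K :=
      { smul := fun t y => ⟨(t : G) * y * (t : G)⁻¹, hSK t t.2 y y.2⟩
        one_smul := fun y => Subtype.ext (by simp [HSMul.hSMul])
        mul_smul := fun s t y => Subtype.ext (by simp [HSMul.hSMul, mul_assoc]) }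
    have hcard : p ∣ Nat.card K := by
      obtain ⟨n, hn⟩ := IsPGroup.iff_card.1 hK
      rw [hn]
      refine dvd_pow_self _ fun h => hne ?_
      rw [h, pow_zero] at hn
      exact card_eq_one.1 hn
    obtain ⟨y, hy, hy1⟩ := hS.exists_fixed_point_of_prime_dvd_card_of_fixed_point ↥K hcard
      (a := 1) (fun t => Subtype.ext (show (t : G) * ((1 : ↥K) : G) * (t : G)⁻¹ = _ by simp))
    exact ⟨y, y.2, fun h => hy1 (Subtype.ext h.symm), fun t ht => congrArg Subtype.val (hy ⟨t, ht⟩)⟩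

end Cfsg.Agent.LAE65.Normal
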