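import Cfsg.Agent.LAE65.Normal.Transport
import Cfsg.Agent.LAE65.Normal.Fixed
import Cfsg.Agent.LAE65.Pair.Main
import Cfsg.Agent.LAE62.ExcQuad

/-!
The Baumann subgroups normalise every subnormal block, which is a block for each of them.
-/

set_option autoImplicit false
set_option linter.style.haveILetI false
set_option linter.unusedSectionVars false

open Subgroup Cfsg
open scoped commutatorElement IsMulCommutative Pointwise

namespace Cfsg.Agent.LAE65.Normal

open Block

variable {G : Type*} [Group G] [Finite G] {p : ℕ} [hp : Fact p.Prime] {E : Subgroup G}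
  {T₀ : Sylow p G}

/-- `[V, E]`. -/
local notation "𝐗" E => ⁅omegaOneCenter p (pCore p G), (E : Subgroup G)⁆

theorem module_map (E : Subgroup G) (g : G) :
    (𝐗 E).map (MulAut.conj g).toMonoidHom = 𝐗 (E.map (MulAut.conj g).toMonoidHom) := by
  rw [map_commutator, mem_normalizer_iff_map.1 (le_normalizer_omegaPCore (p := p) ⊤ (mem_top g))]

theorem conj_sylow (T : Sylow p G) (g : G) :
    ((g • T : Sylow p G) : Subgroup G) = (T : Subgroup G).map (MulAut.conj g).toMonoidHom := rfl

variable (hG : centralizer (pCore p G : Set G) ≤ pCore p G)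
  (hE : IsBaumannBlock p (T₀ : Subgroup G) E) (hEs : E.IsSubnormal)

include hG hE hEs

theorem conj_cases (g : G) :
    E.map (MulAut.conj g).toMonoidHom = E ∨ ⁅E, E.map (MulAut.conj g).toMonoidHom⁆ = ⊥ := by
  have h : IsBaumannBlock p ((g • T₀ : Sylow p G) : Subgroup G) (E.map (MulAut.conj g).toMonoidHom) :=
    conj_sylow T₀ g ▸ isBaumannBlock_map hE g
  exact (Pair.eq_or_commute hG hE h hEs
    (hEs.map (f := (MulAut.conj g).toMonoidHom) (MulAut.conj g).surjective)).imp Eq.symm id

theorem module_le_self : (𝐗 E) ≤ E :=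
  le_normalizer_iff_commutator_le_right.1 ((omegaOneCenter_le _).trans (core_le_normalizer hE))

theorem not_module_le_cent : ¬ (𝐗 E) ≤ centralizer (E : Set G) := fun h => by
  have hf := moduleFacts hG hE
  apply hf.ne_bot
  rw [← hf.idem, commutator_eq_bot_iff_le_centralizer]
  exact h

theorem conj_module_le_cent {g : G} (hg : g ∉ normalizer (E : Set G)) {x : G} (hx : x ∈ 𝐗 E) :
    g * x * g⁻¹ ∈ centralizer (E : Set G) := by
  have h := ((conj_cases hG hE hEs g).resolve_left fun h => hg (mem_normalizer_iff_map.2 h))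
  rw [commutator_comm, commutator_eq_bot_iff_le_centralizer] at h
  exact h ⟨x, module_le_self hG hE hEs hx, rfl⟩

/-- An element of `E` trivial on `X` modulo `C(E)` lies in the core. -/
theorem mem_core_of_mod {e : G} (he : e ∈ E)
    (h : ∀ x ∈ (𝐗 E), ⁅e, x⁆ ∈ centralizer (E : Set G)) : e ∈ pCoreOf p E := by
  have hf := moduleFacts hG hE
  set X := (𝐗 E) with hXdef
  have hEX : E ≤ normalizer (X : Set G) := hf.le_normalizer
  set Z := centralizer (E : Set G)
  let K : Subgroup G :=
    { carrier := {g | g ∈ E ∧ ∀ x ∈ X, ⁅g, x⁆ ∈ Z}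
      one_mem' := ⟨E.one_mem, fun x _ => by rw [commutatorElement_one_left]; exact one_mem _⟩
      mul_mem' := fun {a b} ha hb => ⟨E.mul_mem ha.1 hb.1, fun x hx => by
        rw [PushUp62.commutator_mul_left]
        exact mul_mem ((mem_normalizer_iff.1 (LocalEven64.le_normalizer_centralizer le_rfl
          (le_normalizer ha.1)) _).1 (hb.2 x hx)) (ha.2 x hx)⟩
      inv_mem' := fun {a} ha => ⟨E.inv_mem ha.1, fun x hx => by
        rw [show ⁅a⁻¹, x⁆ = a⁻¹ * ⁅a, x⁆⁻¹ * a by simp only [commutatorElement_def]; group]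
        simpa using (mem_normalizer_iff.1 (LocalEven64.le_normalizer_centralizer le_rfl
          (le_normalizer (E.inv_mem ha.1))) _).1 (inv_mem (ha.2 x hx))⟩ }
  have hKn : E ≤ normalizer (K : Set G) := fun g hg => LocalEven62.mem_normalizer_of_conj_mem fun a ha =>
    ⟨E.mul_mem (E.mul_mem hg ha.1) (E.inv_mem hg), fun x hx => by
      have h1 := ha.2 (g⁻¹ * x * g) (by simpa using (mem_normalizer_iff.1 (hEX (E.inv_mem hg)) x).1 hx)
      have h2 := (mem_normalizer_iff.1 (LocalEven64.le_normalizer_centralizer le_rfl (le_normalizer hg)) _).1 h1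
      rwa [show g * ⁅a, g⁻¹ * x * g⁆ * g⁻¹ = ⁅g * a * g⁻¹, x⁆ by
        simp only [commutatorElement_def]; group] at h2⟩
  have hKp : IsPGroup p ↥K := by
    refine LAE62.isPGroup_of_coprime_trivial fun g' hg' hgp' => ?_
    obtain ⟨g, rfl⟩ : ∃ g : ↥K, (g : G) = g' := ⟨⟨g', hg'⟩, rfl⟩
    refine Transfer.eq_one_of_coprime_of_mem (Pair.isPGroup_core (p := p) E) ?_ hgp'
    refine Pair.mem_core_of_centralizes hG hE g.2.1 fun x hx => ?_
    have hZc : IsPGroup p ↥(X ⊓ Z) := (Thompson.isPGroup_of_isElementaryAbelian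
      (Thompson.isElementaryAbelian_of_le (isElementaryAbelian_omegaOneCenter _) hf.le_v)).to_inf_left
    refine PushUp62.commute_of_stabilizes hZc (fun y hy => mem_centralizer_iff.1 hy.2 g g.2.1)
      (pow_orderOf_eq_one (g : G)) hgp' ⟨?_, g.2.2 x hx⟩
    rw [commutatorElement_def]
    exact X.mul_mem ((mem_normalizer_iff.1 (hEX g.2.1) x).1 hx) (X.inv_mem hx)
  exact LocalEven64.le_pCoreOf (fun g (hg : g ∈ E ∧ _) => hg.1) hKn hKp (show e ∈ K from ⟨he, h⟩)

/-- A subgroup normalising `E` and trivial on `X` modulo `C(E)` centralises `X`. -/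
theorem centralizes_of_mod {b : G} (hb : b ∈ normalizer (E : Set G))
    (h : ∀ x ∈ (𝐗 E), ⁅b, x⁆ ∈ centralizer (E : Set G)) :
    b ∈ centralizer ((𝐗 E : Subgroup G) : Set G) := by
  have hf := moduleFacts hG hE
  set X := (𝐗 E) with hXdef
  have hbX : b ∈ normalizer (X : Set G) := by
    rw [mem_normalizer_iff_map, hXdef, module_map, mem_normalizer_iff_map.1 hb]
  have hXc : ∀ {x y : G}, x ∈ omegaOneCenter p (pCore p G) → y ∈ omegaOneCenter p (pCore p G) →
      x * y = y * x := fun hx hy =>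
    mem_centralizer_iff.1 (omegaOneCenter_le_centralizer _ hy) _ (omegaOneCenter_le _ hx)
  have hEC := LocalEven64.le_normalizer_centralizer (le_normalizer (H := E))
  -- commutators with `E` act trivially modulo `C(E)`
  have hcore : ∀ e ∈ E, ⁅b, e⁆ ∈ pCoreOf p E := by
    intro e he
    have hc : ⁅b, e⁆ ∈ E := by
      rw [commutatorElement_def]
      exact mul_mem ((mem_normalizer_iff.1 hb e).1 he) (inv_mem he)
    refine mem_core_of_mod hG hE hEs hc fun x hx => ?_
    let M : Subgroup G := PushUp62.centMod X (centralizer (E : Set G))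
    have hbM : b ∈ M := ⟨LocalEven64.le_normalizer_centralizer le_rfl hb, h⟩
    have hMn : e ∈ normalizer (M : Set G) := LocalEven62.mem_normalizer_of_conj_mem fun a ha =>
      ⟨mul_mem (mul_mem (hEC he) ha.1) (inv_mem (hEC he)), fun y hy => by
        have h1 := ha.2 (e⁻¹ * y * e) (by
          simpa using (mem_normalizer_iff.1 (hf.le_normalizer (E.inv_mem he)) y).1 hy)
        have h2 := (mem_normalizer_iff.1 (hEC he) _).1 h1
        rwa [show e * ⁅a, e⁻¹ * y * e⁆ * e⁻¹ = ⁅e * a * e⁻¹, y⁆ by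
          simp only [commutatorElement_def]; group] at h2⟩
    have : ⁅b, e⁆ ∈ M := by
      rw [commutatorElement_def, show b * e * b⁻¹ * e⁻¹ = b * (e * b⁻¹ * e⁻¹) by group]
      exact mul_mem hbM ((mem_normalizer_iff.1 hMn _).1 (inv_mem hbM))
    exact this.2 x hx
  suffices hh : ⁅X, zpowers b⁆ = ⊥ by
    rw [commutator_eq_bot_iff_le_centralizer] at hh
    refine mem_centralizer_iff.2 fun x hx => (mem_centralizer_iff.1 (hh hx) b (mem_zpowers b)).symm
  rw [hXdef, ← hf.idem, commutator_comm _ E]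
  refine commutator_commutator_eq_bot_of_rotate ?_ ?_
  · rw [commutator_eq_bot_iff_le_centralizer, commutator_le]
    intro x hx g hg
    have : g ∈ PushUp62.centMod X (centralizer (E : Set G)) :=
      zpowers_le.2 (show b ∈ PushUp62.centMod X (centralizer (E : Set G)) from
        ⟨LocalEven64.le_normalizer_centralizer le_rfl hb, h⟩) hg
    rw [← commutatorElement_inv]
    exact inv_mem (this.2 x hx)
  · rw [commutator_eq_bot_iff_le_centralizer]
    refine le_trans (?_ : ⁅zpowers b, E⁆ ≤ pCoreOf p E) ?_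
    · refine commutator_le.2 fun g hg e he => ?_
      have : g ∈ PushUp62.centMod E (pCoreOf p E) :=
        zpowers_le.2 (show b ∈ PushUp62.centMod E (pCoreOf p E) from
          ⟨LocalEven62.normalizer_le_normalizer_pCoreOf E hb, hcore⟩) hg
      exact this.2 e he
    · exact le_centralizer_iff.1 (hf.le_omega.trans (omegaOneCenter_le_centralizer _))

/-- The maximal elementary abelian subgroups of a Sylow group normalise a subnormal block. -/
theorem maxEA_le_normalizer {T : Sylow p G} {A : Subgroup G}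
    (hA : Thompson.IsMaxEAIn p A (T : Subgroup G)) : A ≤ normalizer (E : Set G) := by
  classical
  intro a₀ ha₀
  by_contra ha₀E
  have hf := moduleFacts hG hE
  set V := omegaOneCenter p (pCore p G) with hVdef
  set X := (𝐗 E) with hXdef
  have hmax := Thompson.isMaxEAIn_sylow_iff T hA
  have hAc : ∀ {a b}, a ∈ A → b ∈ A → a * b = b * a := fun ha hb => Thompson.elemAb_comm hmax.1.1 ha hb
  set W : Subgroup G := ⨆ a : A, X.map (MulAut.conj (a : G)).toMonoidHom with hWdef
  have hXW : X ≤ W := fun x hx => le_iSup (fun a : A => X.map (MulAut.conj (a : G)).toMonoidHom) 1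
    ⟨x, hx, by simp⟩
  have hWV : W ≤ V := iSup_le fun a => by
    rintro _ ⟨x, hx, rfl⟩
    exact (mem_normalizer_iff.1 (le_normalizer_omegaPCore ⊤ (mem_top (a : G))) x).1 (hf.le_v hx)
  have hAW : A ≤ normalizer (W : Set G) := fun a ha => by
    rw [mem_normalizer_iff_map]
    refine eq_of_le_of_card_ge ?_ (card_map_conj W a).ge
    rw [hWdef, Subgroup.map_iSup]
    exact iSup_le fun a' => by
      rw [LocalEven62.map_conj_mul]
      exact le_iSup_of_le (⟨a * a', A.mul_mem ha a'.2⟩ : A) le_rfl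
  have hWel : IsElementaryAbelian p W :=
    Thompson.isElementaryAbelian_of_le (isElementaryAbelian_omegaOneCenter _) hWV
  have hWc : ∀ {x y}, x ∈ W → y ∈ W → x * y = y * x := fun hx hy => Thompson.elemAb_comm hWel.1 hx hy
  obtain ⟨hoff, -, hne⟩ := Thompson.bestOffender_replacement
    (Thompson.isPGroup_of_isElementaryAbelian hWel) hWel.1 hAW (LAE62.bestOffender_of_max' hWel hmax) hXW
  set A' := A ⊓ centralizer ((⁅X, A⁆ : Subgroup G) : Set G) with hA'
  have hWA : ⁅W, A⁆ ≠ ⊥ := fun h => by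
    rw [commutator_eq_bot_iff_le_centralizer] at h
    apply not_module_le_cent hG hE hEs
    intro x hx
    have := conj_module_le_cent hG hE hEs ha₀E hx
    rwa [mem_centralizer_iff.1 (h (hXW hx)) a₀ ha₀, mul_inv_cancel_right] at this
  have hne' := hne hWA
  -- the elements of `A'` fixing the block centralise `W`
  have hfix : ∀ b ∈ A', b ∈ normalizer (E : Set G) → b ∈ centralizer (W : Set G) := by
    intro b hb hbE
    have hbX : b ∈ centralizer (X : Set G) := by
      refine centralizes_of_mod hG hE hEs hbE fun x hx => ?_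
      have hbXn : b ∈ normalizer (X : Set G) := by
        rw [mem_normalizer_iff_map, hXdef, module_map, mem_normalizer_iff_map.1 hbE]
      have hc : ⁅x, a₀⁆ ∈ ⁅X, A⁆ := commutator_mem_commutator hx ha₀
      have h1 := mem_centralizer_iff.1 hb.2 _ hc
      have hd : ⁅b, x⁆ ∈ X := by
        rw [commutatorElement_def]
        exact mul_mem ((mem_normalizer_iff.1 hbXn x).1 hx) (inv_mem hx)
      have key : a₀ * ⁅b, x⁆ * a₀⁻¹ = ⁅b, x⁆ := by
        have hax : a₀ * x⁻¹ * a₀⁻¹ ∈ W :=
          (mem_normalizer_iff.1 (hAW ha₀) _).1 (hXW (inv_mem hx))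
        have hbx : b * x * b⁻¹ ∈ W := hXW ((mem_normalizer_iff.1 hbXn x).1 hx)
        have hab : a₀ * b = b * a₀ := hAc ha₀ hb.1
        have e1 : b * ⁅x, a₀⁆ * b⁻¹ = b * x * b⁻¹ * (a₀ * (b * x⁻¹ * b⁻¹) * a₀⁻¹) := by
          calc b * ⁅x, a₀⁆ * b⁻¹ = b * x * (a₀ * x⁻¹ * a₀⁻¹) * b⁻¹ := by
                rw [commutatorElement_def]; group
            _ = b * x * b⁻¹ * ((b * a₀) * x⁻¹ * (b * a₀)⁻¹) := by group
            _ = b * x * b⁻¹ * ((a₀ * b) * x⁻¹ * (a₀ * b)⁻¹) := by rw [hab]
            _ = _ := by group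
        have e2 : b * ⁅x, a₀⁆ * b⁻¹ = x * (a₀ * x⁻¹ * a₀⁻¹) := by
          rw [← h1, mul_inv_cancel_right, commutatorElement_def]; group
        have hbxi : a₀ * (b * x⁻¹ * b⁻¹) * a₀⁻¹ ∈ W := (mem_normalizer_iff.1 (hAW ha₀) _).1
          (hXW ((mem_normalizer_iff.1 hbXn _).1 (inv_mem hx)))
        rw [e1] at e2
        calc a₀ * ⁅b, x⁆ * a₀⁻¹
            = (a₀ * (b * x⁻¹ * b⁻¹) * a₀⁻¹)⁻¹ * (a₀ * x⁻¹ * a₀⁻¹) := by
              rw [commutatorElement_def]; group
          _ = (a₀ * (b * x⁻¹ * b⁻¹) * a₀⁻¹)⁻¹ * (x⁻¹ * (b * x * b⁻¹ *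
                (a₀ * (b * x⁻¹ * b⁻¹) * a₀⁻¹))) := by rw [e2, inv_mul_cancel_left]
          _ = (a₀ * (b * x⁻¹ * b⁻¹) * a₀⁻¹)⁻¹ * ((a₀ * (b * x⁻¹ * b⁻¹) * a₀⁻¹) *
                (x⁻¹ * (b * x * b⁻¹))) := by
              rw [← mul_assoc x⁻¹ (b * x * b⁻¹), hWc (mul_mem (hXW (inv_mem hx)) hbx) hbxi]
          _ = b * x * b⁻¹ * x⁻¹ := by rw [inv_mul_cancel_left, hWc (hXW (inv_mem hx)) hbx]
          _ = ⁅b, x⁆ := (commutatorElement_def b x).symm
      rw [← key]
      exact conj_module_le_cent hG hE hEs ha₀E hd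
    have hle : W ≤ centralizer ({b} : Set G) := iSup_le fun a => by
      rintro _ ⟨x, hx, rfl⟩
      rw [mem_centralizer_singleton]
      show (a : G) * x * (a : G)⁻¹ * b = b * ((a : G) * x * (a : G)⁻¹)
      have hab := hAc a.2 hb.1
      have hxb := mem_centralizer_iff.1 hbX x hx
      calc (a : G) * x * (a : G)⁻¹ * b = (a : G) * x * ((a : G)⁻¹ * b) := by group
        _ = (a : G) * (x * b) * (a : G)⁻¹ := by rw [hAc (inv_mem a.2) hb.1]; group
        _ = (a : G) * (b * x) * (a : G)⁻¹ := by rw [hxb]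
        _ = (a : G) * b * x * (a : G)⁻¹ := by group
        _ = _ := by rw [hab]; group
    exact mem_centralizer_iff.2 fun w hw => mem_centralizer_singleton.1 (hle hw)
  obtain ⟨b, hb, hbW⟩ : ∃ b ∈ A', b ∉ centralizer (W : Set G) := SetLike.not_le_iff_exists.1 fun h =>
    hne' (commutator_eq_bot_iff_le_centralizer.2 (le_centralizer_iff.1 h))
  have hbE : b ∉ normalizer (E : Set G) := fun h => hbW (hfix b hb h)
  have hprod : ∀ a ∈ A', a ∉ normalizer (E : Set G) → a * b ∈ normalizer (E : Set G) := by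
    intro a ha haE
    by_contra habE
    apply not_module_le_cent hG hE hEs
    intro x hx
    have h1 := mem_centralizer_iff.1 hb.2 _ (commutator_mem_commutator hx ha.1)
    have e : x = b * x * b⁻¹ * ((a * b) * x * (a * b)⁻¹)⁻¹ * (a * x * a⁻¹) := by
      have h2 : b * ⁅x, a⁆ * b⁻¹ = ⁅x, a⁆ := by rw [← h1, mul_inv_cancel_right]
      calc x = ⁅x, a⁆ * (a * x * a⁻¹) := by rw [commutatorElement_def]; group
        _ = b * ⁅x, a⁆ * b⁻¹ * (a * x * a⁻¹) := by rw [h2]
        _ = b * x * b⁻¹ * ((b * a) * x * (b * a)⁻¹)⁻¹ * (a * x * a⁻¹) := by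
          rw [commutatorElement_def]; group
        _ = _ := by rw [hAc hb.1 ha.1]
    rw [e]
    exact mul_mem (mul_mem (conj_module_le_cent hG hE hEs hbE hx)
      (inv_mem (conj_module_le_cent hG hE hEs habE hx))) (conj_module_le_cent hG hE hEs haE hx)
  have hb2 := hprod b hb hbE
  have hp2 : p = 2 := by
    by_contra hp2
    have hbp : b ^ p = 1 := hmax.1.2 b hb.1
    obtain ⟨t, ht⟩ := hp.out.odd_of_ne_two hp2
    have : (b * b) ^ (t + 1) = b := by
      rw [← sq, ← pow_mul, show 2 * (t + 1) = p + 1 by omega, pow_succ, hbp, one_mul]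
    exact hbE (this ▸ pow_mem hb2 _)
  set C := A' ⊓ normalizer (E : Set G) with hC
  have hcard : Nat.card A' ≤ 2 * Nat.card C := by
    have hbb : b * b = 1 := by rw [← sq, ← hp2]; exact hmax.1.2 b hb.1
    let f : ↥A' → Bool × ↥C := fun a =>
      if h : (a : G) ∈ normalizer (E : Set G) then (true, ⟨a, a.2, h⟩)
      else (false, ⟨a * b, A'.mul_mem a.2 hb, hprod a a.2 h⟩)
    have hf : Function.Injective f := by
      intro a a' h
      simp only [f] at h
      split_ifs at h
      · exact Subtype.ext (congrArg (fun z => (z.2 : G)) h)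
      · simp at h
      · simp at h
      · exact Subtype.ext (mul_right_cancel (b := b) (congrArg (fun z => (z.2 : G)) h))
    have := Nat.card_le_card_of_injective f hf
    simpa using this
  have hCW : C ≤ centralizer (W : Set G) := fun c hc => hfix c hc.1 hc.2
  have hineq := hoff.1 C inf_le_left
  rw [inf_eq_left.2 (le_centralizer_iff.1 hCW)] at hineq
  have hle : Nat.card W ≤ 2 * Nat.card ↥(W ⊓ centralizer ({b} : Set G)) := by
    have h1 : Nat.card ↥(W ⊓ centralizer (A' : Set G)) ≤ Nat.card ↥(W ⊓ centralizer ({b} : Set G)) :=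
      Subgroup.card_le_of_le (inf_le_inf le_rfl (centralizer_le (Set.singleton_subset_iff.2 hb)))
    have h2 : Nat.card C * Nat.card W ≤ Nat.card C * (2 * Nat.card ↥(W ⊓ centralizer ({b} : Set G))) := by
      calc _ ≤ Nat.card A' * Nat.card ↥(W ⊓ centralizer (A' : Set G)) := hineq
        _ ≤ (2 * Nat.card C) * Nat.card ↥(W ⊓ centralizer ({b} : Set G)) := Nat.mul_le_mul hcard h1
        _ = _ := by ring
    exact Nat.le_of_mul_le_mul_left h2 Nat.card_pos
  have hbWn := hAW hb.1
  let φ : ↥W →* ↥W :=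
    { toFun := fun w => ⟨b * w * b⁻¹ * (w : G)⁻¹,
        mul_mem ((mem_normalizer_iff.1 hbWn w).1 w.2) (inv_mem w.2)⟩
      map_one' := Subtype.ext (by simp)
      map_mul' := fun u w => Subtype.ext (by
        show b * ((u : G) * w) * b⁻¹ * ((u : G) * w)⁻¹ =
          b * u * b⁻¹ * (u : G)⁻¹ * (b * w * b⁻¹ * (w : G)⁻¹)
        have hw' : b * w * b⁻¹ * (w : G)⁻¹ ∈ W :=
          mul_mem ((mem_normalizer_iff.1 hbWn w).1 w.2) (inv_mem w.2)
        calc b * ((u : G) * w) * b⁻¹ * ((u : G) * w)⁻¹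
            = b * u * b⁻¹ * ((b * w * b⁻¹ * (w : G)⁻¹) * (u : G)⁻¹) := by group
          _ = b * u * b⁻¹ * ((u : G)⁻¹ * (b * w * b⁻¹ * (w : G)⁻¹)) := by rw [hWc hw' (inv_mem u.2)]
          _ = _ := by group) }
  have hker : φ.ker.map W.subtype = W ⊓ centralizer ({b} : Set G) := by
    ext w
    constructor
    · rintro ⟨⟨w, hw⟩, h, rfl⟩
      refine ⟨hw, mem_centralizer_singleton.2 ?_⟩
      have h' : b * w * b⁻¹ * w⁻¹ = 1 := congrArg Subtype.val h
      exact (mul_inv_eq_iff_eq_mul.1 (mul_inv_eq_one.1 h')).symm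
    · rintro ⟨hw, hc⟩
      refine ⟨⟨w, hw⟩, Subtype.ext ?_, rfl⟩
      show b * w * b⁻¹ * w⁻¹ = 1
      rw [← mem_centralizer_singleton.1 hc]; group
  have hrange : Nat.card φ.range ≤ 2 := by
    have h1 : Nat.card φ.range * Nat.card φ.ker = Nat.card W := by
      rw [← Nat.card_congr (QuotientGroup.quotientKerEquivRange φ).toEquiv,
        ← Subgroup.card_eq_card_quotient_mul_card_subgroup]
    rw [← hker, card_map_of_injective W.subtype_injective, ← h1] at hle
    exact Nat.le_of_mul_le_mul_right hle Nat.card_pos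
  have hout : ∀ x (hx : x ∈ X), x ∉ centralizer (E : Set G) → φ ⟨x, hXW hx⟩ ≠ 1 := fun x hx hxc h => by
    have h' : b * x * b⁻¹ * x⁻¹ = 1 := congrArg Subtype.val h
    exact hxc (by rw [← mul_inv_eq_one.1 h']; exact conj_module_le_cent hG hE hEs hbE hx)
  apply not_module_le_cent hG hE hEs
  have hXn : E ≤ normalizer (X : Set G) := hf.le_normalizer
  have hdiff : ∀ x y, x ∈ X → y ∈ X → x ∉ centralizer (E : Set G) → y ∉ centralizer (E : Set G) →
      x * y⁻¹ ∈ centralizer (E : Set G) := by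
    intro x y hx hy hxc hyc
    by_contra hxy
    have h3 := hout _ (mul_mem hx (inv_mem hy)) hxy
    have heq : φ ⟨x, hXW hx⟩ = φ ⟨y, hXW hy⟩ := by
      by_contra hne
      let g : Fin 3 → ↥φ.range := ![⟨1, one_mem _⟩, ⟨_, ⟨⟨x, hXW hx⟩, rfl⟩⟩, ⟨_, ⟨⟨y, hXW hy⟩, rfl⟩⟩]
      have hg : Function.Injective g := by
        intro i j h
        have h' := congrArg Subtype.val h
        fin_cases i <;> fin_cases j <;> simp [g] at h' ⊢ <;>
          first
          | exact absurd h' hne
          | exact absurd h'.symm hne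
          | exact absurd h' (hout x hx hxc)
          | exact absurd h'.symm (hout x hx hxc)
          | exact absurd h' (hout y hy hyc)
          | exact absurd h'.symm (hout y hy hyc)
      have := Nat.card_le_card_of_injective g hg
      rw [Nat.card_fin] at this
      omega
    apply h3
    rw [show (⟨x * y⁻¹, hXW (mul_mem hx (inv_mem hy))⟩ : W) = ⟨x, hXW hx⟩ * ⟨y, hXW hy⟩⁻¹ from rfl,
      map_mul, map_inv, heq, mul_inv_cancel]
  refine fun x hx => ?_
  by_contra hxc
  have hEQ : E ≤ pCoreOf p E := fun e he => mem_core_of_mod hG hE hEs he fun y hy => by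
    by_cases hyc : y ∈ centralizer (E : Set G)
    · rw [show ⁅e, y⁆ = 1 from commutatorElement_eq_one_iff_mul_comm.2 (mem_centralizer_iff.1 hyc e he)]
      exact one_mem _
    · rw [commutatorElement_def]
      refine hdiff _ y ((mem_normalizer_iff.1 (hXn he) y).1 hy) hy (fun h => hyc ?_) hyc
      exact (mem_normalizer_iff.1 (LocalEven64.le_normalizer_centralizer le_rfl (le_normalizer he)) y).2 h
  exact Pair.eq_bot_of_le_core hE hEQ

theorem thompson_le_normalizer (T : Sylow p G) :
    thompsonSubgroupOf p (T : Subgroup G) ≤ normalizer (E : Set G) := by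
  rw [Thompson.thompsonSubgroupOf_eq]
  exact sSup_le fun A hA => maxEA_le_normalizer hG hE hEs hA

theorem exists_moved : ∃ z ∈ omegaOneCenter p (pCore p G),
    (∀ s ∈ (T₀ : Subgroup G) ⊓ E, s * z = z * s) ∧ z ∉ centralizer (E : Set G) := by
  obtain ⟨z, hz, hzc⟩ := SetLike.not_le_iff_exists.1 fun h : omegaOneCenter p (T₀ : Subgroup G) ≤
      centralizer (E : Set G) => hE.2.2.2.1 (by
    rw [commutator_comm, commutator_eq_bot_iff_le_centralizer]; exact h)
  exact ⟨z, omegaOneCenter_sylow_le hG hz,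
    fun s hs => mem_centralizer_iff.1 (omegaOneCenter_le_centralizer _ hz) s hs.1, hzc⟩

theorem exists_fixed_module (T : Sylow p G) :
    ∃ x ∈ (𝐗 E), x ∉ centralizer (E : Set G) ∧
      ∀ t ∈ (T : Subgroup G), t ∈ normalizer (E : Set G) → t * x * t⁻¹ = x := by
  obtain ⟨z, hz, hzT, hzE⟩ := exists_moved hG hE hEs
  exact exists_fixed hEs hz hzT hzE T

/-- The centralizer of `Ω₁(Z(J(T)))` normalises every subnormal block. -/
theorem centralizer_omega_le_normalizer (T : Sylow p G) :
    centralizer (omegaOne p (centerThompsonOf p (T : Subgroup G)) : Set G)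
      ≤ normalizer (E : Set G) := by
  intro b hb
  obtain ⟨x, hx, hxc, hfix⟩ := exists_fixed_module hG hE hEs T
  by_contra hbE
  have hxV := (moduleFacts hG hE).le_v hx
  have hJ := thompson_le_normalizer hG hE hEs T
  have hJT := Thompson.thompsonSubgroupOf_le (p := p) (T : Subgroup G)
  have hxJc : x ∈ centralizer (thompsonSubgroupOf p (T : Subgroup G) : Set G) :=
    mem_centralizer_iff.2 fun j hj => mul_inv_eq_iff_eq_mul.1 (hfix j (hJT hj) (hJ hj))
  have hxp : x ^ p = 1 := (isElementaryAbelian_omegaOneCenter _).2 x hxV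
  have hxJ : x ∈ thompsonSubgroupOf p (T : Subgroup G) := by
    obtain ⟨A, hA⟩ := Thompson.exists_isMaxEAIn p (T : Subgroup G)
    have hle := Thompson.le_thompsonSubgroupOf hA
    exact hle (Thompson.mem_of_centralizes_max (Thompson.isMaxEAIn_sylow_iff T hA)
      (centralizer_le hle hxJc) hxp)
  have hxZ : x ∈ omegaOne p (centerThompsonOf p (T : Subgroup G)) :=
    Thompson.mem_omegaOne ⟨hxJ, hxJc⟩ hxp
  apply hxc
  have h := conj_module_le_cent hG hE hEs hbE hx
  rwa [← mem_centralizer_iff.1 hb x hxZ, mul_inv_cancel_right] at h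

theorem baumann_le_normalizer (T : Sylow p G) :
    baumannSubgroupOf p (T : Subgroup G) ≤ normalizer (E : Set G) :=
  inf_le_right.trans (centralizer_omega_le_normalizer hG hE hEs T)

theorem commutator_omega_ne (T : Sylow p G) : ⁅E, omegaOneCenter p (T : Subgroup G)⁆ ≠ ⊥ := by
  classical
  obtain ⟨x, hx, hxc, hfix⟩ := exists_fixed_module hG hE hEs T
  have hVel := isElementaryAbelian_omegaOneCenter (p := p) (pCore p G)
  set V := omegaOneCenter p (pCore p G) with hVdef
  haveI : IsMulCommutative V := hVel.1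
  have hxV := (moduleFacts hG hE).le_v hx
  have hVn : ∀ g : G, ∀ {v}, v ∈ V → g * v * g⁻¹ ∈ V := fun g {v} hv =>
    (mem_normalizer_iff.1 (le_normalizer_omegaPCore ⊤ (mem_top g)) v).1 hv
  let S : Subgroup ↥(T : Subgroup G) := (normalizer (E : Set G)).subgroupOf (T : Subgroup G)
  letI : Fintype (↥(T : Subgroup G) ⧸ S) := Fintype.ofFinite _
  have hrep : ∀ t t' : ↥(T : Subgroup G), (QuotientGroup.mk t : _ ⧸ S) = QuotientGroup.mk t' →
      (t : G) * x * (t : G)⁻¹ = (t' : G) * x * (t' : G)⁻¹ := by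
    intro t t' h
    have hs : ((t⁻¹ * t' : ↥(T : Subgroup G)) : G) ∈ normalizer (E : Set G) := (QuotientGroup.eq.1 h :)
    have := hfix _ (t⁻¹ * t').2 hs
    rw [Subgroup.coe_mul, Subgroup.coe_inv] at this
    conv_lhs => rw [← this]
    group
  let f : ↥(T : Subgroup G) ⧸ S → V := fun q => ⟨(q.out : G) * x * (q.out : G)⁻¹, hVn _ hxV⟩
  set w : V := ∏ q, f q with hw
  have hwfix : ∀ t : ↥(T : Subgroup G), (t : G) * w * (t : G)⁻¹ = w := by
    intro t
    let c : V →* V :=
      { toFun := fun y => ⟨(t : G) * y * (t : G)⁻¹, hVn _ y.2⟩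
        map_one' := Subtype.ext (by simp)
        map_mul' := fun y z => Subtype.ext (by simp [mul_assoc]) }
    show ((c w : V) : G) = _
    congr 1
    rw [hw, map_prod]
    refine Fintype.prod_equiv (MulAction.toPerm t) _ _ fun q => Subtype.ext ?_
    show (t : G) * ((q.out : G) * x * (q.out : G)⁻¹) * (t : G)⁻¹ =
      ((MulAction.toPerm t q).out : G) * x * ((MulAction.toPerm t q).out : G)⁻¹
    rw [hrep (MulAction.toPerm t q).out (t * q.out) (by
      rw [QuotientGroup.out_eq', MulAction.toPerm_apply, ← smul_eq_mul, ← MulAction.Quotient.smul_mk,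
        QuotientGroup.out_eq']), Subgroup.coe_mul]
    group
  have hwZ : (w : G) ∈ omegaOneCenter p (T : Subgroup G) :=
    Thompson.mem_omegaOne ⟨Thompson.pCore_le_sylow T (omegaOneCenter_le _ w.2),
      mem_centralizer_iff.2 fun t ht => mul_inv_eq_iff_eq_mul.1 (hwfix ⟨t, ht⟩)⟩ (hVel.2 _ w.2)
  intro h
  rw [commutator_comm, commutator_eq_bot_iff_le_centralizer] at h
  apply hxc
  let q₀ : ↥(T : Subgroup G) ⧸ S := QuotientGroup.mk 1
  have h0 : (f q₀ : G) = x := by
    show (q₀.out : G) * x * (q₀.out : G)⁻¹ = x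
    rw [hrep q₀.out 1 (by rw [QuotientGroup.out_eq'])]
    simp
  have hsplit : w = f q₀ * ∏ q ∈ Finset.univ.erase q₀, f q :=
    (Finset.mul_prod_erase _ _ (Finset.mem_univ q₀)).symm
  have hrest : ((∏ q ∈ Finset.univ.erase q₀, f q : V) : G) ∈ centralizer (E : Set G) := by
    have : (∏ q ∈ Finset.univ.erase q₀, f q : V) ∈ (centralizer (E : Set G)).subgroupOf V := by
      refine Subgroup.prod_mem _ fun q hq => ?_
      refine conj_module_le_cent hG hE hEs (fun hn => (Finset.ne_of_mem_erase hq) ?_) hx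
      rw [← QuotientGroup.out_eq' q]
      refine QuotientGroup.eq.2 ?_
      show (((q.out)⁻¹ * 1 : ↥(T : Subgroup G)) : G) ∈ normalizer (E : Set G)
      simpa using hn
    exact this
  have hw' := h hwZ
  rw [hsplit, Subgroup.coe_mul, h0] at hw'
  have := mul_mem hw' (inv_mem hrest)
  rwa [mul_inv_cancel_right] at this

theorem thompson_eq_of_le (T T' : Sylow p G)
    (h : thompsonSubgroupOf p (T : Subgroup G) ≤ (T' : Subgroup G)) :
    thompsonSubgroupOf p (T : Subgroup G) = thompsonSubgroupOf p (T' : Subgroup G) := by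
  have hle : thompsonSubgroupOf p (T : Subgroup G) ≤ thompsonSubgroupOf p (T' : Subgroup G) := by
    rw [Thompson.thompsonSubgroupOf_eq]
    refine sSup_le fun A hA => Thompson.le_thompsonSubgroupOf ?_
    exact ⟨(Thompson.le_thompsonSubgroupOf hA).trans h, hA.2.1, fun B hBT hB =>
      (Thompson.isMaxEAIn_sylow_iff T hA).2 B hB⟩
  obtain ⟨g, hg⟩ := MulAction.exists_smul_eq G T T'
  refine eq_of_le_of_card_ge hle (le_of_eq ?_)
  rw [← hg, conj_sylow, ← Thompson.thompsonSubgroupOf_conj, card_map_conj]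

theorem isBaumannBlock_all (T' : Sylow p G) : IsBaumannBlock p (T' : Subgroup G) E := by
  obtain ⟨g, hg⟩ := MulAction.exists_smul_eq G T₀ T'
  set T := T₀
  set E0 := E.map (MulAut.conj g⁻¹).toMonoidHom with hE0
  suffices h0 : IsBaumannBlock p (T : Subgroup G) E0 by
    have := isBaumannBlock_map h0 g
    rwa [hE0, LocalEven62.map_conj_mul, mul_inv_cancel, LocalEven62.map_conj_one, ← conj_sylow,
      hg] at this
  set J := thompsonSubgroupOf p (T : Subgroup G) with hJdef
  have hJE : J ≤ normalizer (E : Set G) := thompson_le_normalizer hG hE hEs T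
  have hJE' : J.map (MulAut.conj g).toMonoidHom ≤ normalizer (E : Set G) := by
    rw [hJdef, Thompson.thompsonSubgroupOf_conj, ← conj_sylow, hg]
    exact thompson_le_normalizer hG hE hEs T'
  have hJp : IsPGroup p ↥J := T.isPGroup'.to_le (Thompson.thompsonSubgroupOf_le _)
  obtain ⟨n, hn, hnJ⟩ : ∃ n ∈ normalizer (E : Set G), n * g ∈ normalizer (J : Set G) := by
    obtain ⟨P, hP⟩ := (hJp.of_equiv (Subgroup.subgroupOfEquivOfLe hJE).symm).exists_le_sylow
    have hS1 := LocalEven62.IsSyl.of_sylow_sub P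
    obtain ⟨T1, hT1⟩ := hS1.isPGroup.exists_le_sylow
    obtain ⟨n, hn, hle⟩ := hS1.exists_conj_le (hJp.map _) hJE'
    refine ⟨n, hn, ?_⟩
    have hJS : J ≤ (P : Subgroup _).map (normalizer (E : Set G)).subtype := fun j hj =>
      ⟨⟨j, hJE hj⟩, hP hj, rfl⟩
    have e1 := thompson_eq_of_le hG hE hEs T T1 (hJS.trans hT1)
    have e2 : J.map (MulAut.conj (n * g)).toMonoidHom = thompsonSubgroupOf p (T1 : Subgroup G) := by
      rw [hJdef, Thompson.thompsonSubgroupOf_conj, ← conj_sylow]
      refine thompson_eq_of_le hG hE hEs _ T1 ?_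
      rw [conj_sylow, ← Thompson.thompsonSubgroupOf_conj, ← hJdef, ← LocalEven62.map_conj_mul]
      exact hle.trans hT1
    rw [mem_normalizer_iff_map, e2, ← e1]
  set Z0 := omegaOne p (centerThompsonOf p (T : Subgroup G)) with hZ0
  set H := normalizer (J : Set G) ⊓ centralizer (Z0 : Set G) with hH
  have hNZ : normalizer (J : Set G) ≤ normalizer (Z0 : Set G) := fun x hx => by
    rw [mem_normalizer_iff_map] at hx ⊢
    rw [hZ0, centerThompsonOf, Thompson.map_omegaOne _ _ (MulAut.conj x).injective.injOn,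
      LocalEven64.map_self_centralizer (f := (MulAut.conj x).toMonoidHom) (MulAut.conj x).injective,
      ← hJdef, hx]
  have hNH : normalizer (J : Set G) ≤ normalizer (H : Set G) :=
    LocalEven64.le_normalizer_inf le_normalizer (LocalEven64.le_normalizer_centralizer hNZ)
  have hTJ : (T : Subgroup G) ≤ normalizer (J : Set G) := fun t ht => by
    rw [mem_normalizer_iff_map, hJdef, Thompson.thompsonSubgroupOf_conj,
      mem_normalizer_iff_map.1 (le_normalizer ht)]
  have hB : (T : Subgroup G) ⊓ H = baumannSubgroupOf p (T : Subgroup G) := by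
    rw [hH, ← inf_assoc, inf_eq_left.2 hTJ]; rfl
  have hSyl := (LocalEven62.IsSyl.sylow_of_le T hTJ).inf_normal (N := H) inf_le_left hNH
  obtain ⟨a, ha, c, hc, hac⟩ := hSyl.exists_mul inf_le_left hNH (inv_mem hnJ)
  have hcE : c ∈ normalizer (E : Set G) :=
    centralizer_omega_le_normalizer hG hE hEs T hc.2
  have hE0a : E0 = E.map (MulAut.conj a).toMonoidHom := by
    have h1 : g⁻¹ = a * (c * n) := by
      rw [← mul_assoc, ← hac]; group
    rw [hE0, h1, ← LocalEven62.map_conj_mul, mem_normalizer_iff_map.1 (mul_mem hcE hn)]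
  have hblock : IsBaumannBlock p ((T : Subgroup G).map (MulAut.conj a).toMonoidHom) E0 :=
    hE0a ▸ isBaumannBlock_map hE a
  refine isBaumannBlock_congr hblock ?_ ?_
  · rw [← baumann_map, ← hB]
    exact (mem_normalizer_iff_map.1 ha.2).symm
  · have hE0s : E0.IsSubnormal :=
      hEs.map (f := (MulAut.conj g⁻¹).toMonoidHom) (MulAut.conj g⁻¹).surjective
    have hb' : IsBaumannBlock p ((a • T : Sylow p G) : Subgroup G) E0 := conj_sylow T a ▸ hblock
    exact commutator_omega_ne hG hb' hE0s T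

end Cfsg.Agent.LAE65.Normal
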