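import Cfsg.Agent.LAE62.SL2Three
import Mathlib.FieldTheory.Finite.Basic

/-!
Semilinear maps of the plane and field automorphisms of order `p`.
-/

set_option autoImplicit false
set_option linter.unusedSectionVars false

open scoped MatrixGroups
open Cfsg.Agent.LAE62 (act act_apply act_smul)
open Cfsg.Agent.LAE65.Natural

namespace Cfsg.Agent.LAE65.Normal

variable {K : Type} [Field K]

/-- An additive map commuting with `SL₂(K)` is a scalar. -/
theorem scalar_of_commute (L : (Fin 2 → K) →+ (Fin 2 → K))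
    (h' : ∀ g y, L (act g y) = act g (L y)) : ∃ c : K, ∀ y, L y = c • y := by
  have hx : ∀ t, L ![t, 0] 1 = 0 := fun t => by
    have e : act (uMat 1) ![t, 0] = ![t, 0] := by
      funext i; fin_cases i <;> simp [act_apply, uMat_coe]
    have := congrFun (h' (uMat 1) ![t, 0]) 0
    rw [e] at this
    simpa [act_apply, uMat_coe] using this
  have hy : ∀ t, L ![0, t] 0 = 0 := fun t => by
    have e : act (lMat 1) ![0, t] = ![0, t] := by
      funext i; fin_cases i <;> simp [act_apply, lMat_coe]
    have := congrFun (h' (lMat 1) ![0, t]) 1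
    rw [e] at this
    simpa [act_apply, lMat_coe] using this
  have hxt : ∀ t, L ![t, 0] 0 = t * L ![0, 1] 1 := fun t => by
    have e : act (uMat t) ![0, 1] = ![t, 0] + ![0, 1] := by
      funext i; fin_cases i <;> simp [act_apply, uMat_coe]
    have := congrFun (h' (uMat t) ![0, 1]) 0
    rw [e, map_add] at this
    simpa [act_apply, uMat_coe, hy] using this
  have hyt : ∀ t, L ![0, t] 1 = t * L ![1, 0] 0 := fun t => by
    have e : act (lMat t) ![1, 0] = ![1, 0] + ![0, t] := by
      funext i; fin_cases i <;> simp [act_apply, lMat_coe]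
    have := congrFun (h' (lMat t) ![1, 0]) 1
    rw [e, map_add] at this
    simpa [act_apply, lMat_coe, hx] using this
  refine ⟨L ![0, 1] 1, fun y => ?_⟩
  have hy' : y = ![y 0, 0] + ![0, y 1] := by funext i; fin_cases i <;> simp
  rw [hy', map_add]
  funext i
  fin_cases i
  · simp [hxt, hy]; ring
  · simp [hx, hyt]; rw [hxt 1, one_mul]; ring

/-- An additive bijection normalising `SL₂(K)` is semilinear. -/
theorem semilinear_of_normalizes (L : (Fin 2 → K) ≃+ (Fin 2 → K))
    (h : ∀ M : SL(2, K), ∃ M' : SL(2, K), ∀ v, L (act M' v) = act M (L v)) (c : K) :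
    ∃ c' : K, ∀ v, L (c • v) = c' • L v := by
  obtain ⟨c', hc'⟩ := scalar_of_commute
    (AddMonoidHom.mk' (fun v => L (c • L.symm v)) (fun v w => by rw [map_add, smul_add, map_add]))
    (fun M y => by
      obtain ⟨M', hM'⟩ := h M
      show L (c • L.symm (act M y)) = act M (L (c • L.symm y))
      have : L.symm (act M y) = act M' (L.symm y) := by
        apply L.injective
        rw [hM', L.apply_symm_apply, L.apply_symm_apply]
      rw [this, ← act_smul, hM'])
  refine ⟨c', fun v => ?_⟩
  simpa using hc' (L v)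

theorem exists_to_first {v : Fin 2 → K} (hv : v ≠ 0) : ∃ M : SL(2, K), act M v = ![1, 0] := by
  by_cases ha : v 0 = 0
  · have hb : v 1 ≠ 0 := fun hb => hv (funext fun i => by fin_cases i <;> assumption)
    refine ⟨⟨!![0, (v 1)⁻¹; -(v 1), 0], by simp [Matrix.det_fin_two, hb]⟩, ?_⟩
    funext i; fin_cases i <;> simp [act, Matrix.mulVec, dotProduct, Fin.sum_univ_two, ha, hb]
  · refine ⟨⟨!![(v 0)⁻¹, 0; -(v 1), v 0], by simp [Matrix.det_fin_two, ha]⟩, ?_⟩
    funext i; fin_cases i <;> simp [act, Matrix.mulVec, dotProduct, Fin.sum_univ_two, ha] <;> ring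

variable [Finite K] (σ : K →+* K)

/-- The solutions of a semilinear eigenvalue equation are at most as many as the fixed points. -/
theorem card_eigen_le (S : Set K) (c₁ c₂ : K) (hc : c₁ ≠ 0) (hS : ∀ z ∈ S, σ z * c₁ = z * c₂) :
    Nat.card S ≤ Nat.card {z : K // σ z = z} := by
  classical
  haveI : Nonempty {z : K // σ z = z} := ⟨⟨0, map_zero σ⟩⟩
  by_cases h0 : ∀ z ∈ S, z = 0
  · haveI : Subsingleton S := ⟨fun a b => Subtype.ext ((h0 _ a.2).trans (h0 _ b.2).symm)⟩
    exact (Finite.card_le_one_iff_subsingleton.2 inferInstance).trans Nat.card_pos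
  push Not at h0
  obtain ⟨z₀, hz₀, hz0⟩ := h0
  have hσ : σ z₀ ≠ 0 := fun h => hz0 (σ.injective (h.trans (map_zero σ).symm))
  have hc2 : c₂ ≠ 0 := fun h => by
    have := hS z₀ hz₀
    rw [h, mul_zero, mul_eq_zero] at this
    exact this.elim hσ hc
  refine Nat.card_le_card_of_injective (fun z : S => (⟨(z : K) / z₀, ?_⟩ : {z : K // σ z = z})) ?_
  · rw [map_div₀, ← mul_div_mul_right _ _ hc, hS z z.2, hS z₀ hz₀, mul_div_mul_right _ _ hc2]
  · intro a b h
    exact Subtype.ext (div_left_inj' hz0 |>.1 (congrArg Subtype.val h))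

/-- The fixed field of a nontrivial automorphism is small. -/
theorem card_fixed_sq_le (hσ : ∃ c, σ c ≠ c) :
    Nat.card {z : K // σ z = z} * Nat.card {z : K // σ z = z} ≤ Nat.card K := by
  obtain ⟨l, hl⟩ := hσ
  rw [← Nat.card_prod]
  refine Nat.card_le_card_of_injective (fun q => (q.1 : K) + l * q.2) ?_
  rintro ⟨⟨a, ha⟩, ⟨b, hb⟩⟩ ⟨⟨a', ha'⟩, ⟨b', hb'⟩⟩ h
  have h' : a + l * b = a' + l * b' := h
  by_cases hbb : b = b'
  · subst hbb
    obtain rfl : a = a' := add_right_cancel h'
    rfl
  exfalso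
  have hne : b - b' ≠ 0 := sub_ne_zero.2 hbb
  have : l = (a' - a) / (b - b') := by rw [eq_div_iff hne]; linear_combination h'
  apply hl
  rw [this, map_div₀, map_sub, map_sub, ha, ha', hb, hb']

variable {p : ℕ} [hp : Fact p.Prime]

theorem prime_le_card_fixed [CharP K p] : p ≤ Nat.card {z : K // σ z = z} := by
  have h := Nat.card_le_card_of_injective
    (fun j : Fin p => (⟨((j : ℕ) : K), map_natCast σ _⟩ : {z : K // σ z = z})) (fun a b h => by
      have h' : ((a : ℕ) : K) = ((b : ℕ) : K) := congrArg Subtype.val h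
      have := (CharP.natCast_eq_natCast K p).1 h'
      rw [Nat.ModEq, Nat.mod_eq_of_lt a.2, Nat.mod_eq_of_lt b.2] at this
      exact Fin.ext this)
  simpa using h

omit [Finite K]

/-- A field has at most `p` automorphisms with `p`-th power one, when it is finite. -/
theorem card_aut_le {H : Type*} [Group H] [Finite H] [Finite K] [Algebra (ZMod p) K]
    (f : H →* (K ≃ₐ[ZMod p] K)) (hH : ∀ a : H, f a ^ p = 1) : Nat.card f.range ≤ p := by
  classical
  letI : Fintype (K ≃ₐ[ZMod p] K) := Fintype.ofFinite _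
  refine le_trans ?_ (IsCyclic.card_pow_eq_one_le (α := K ≃ₐ[ZMod p] K) hp.out.pos)
  rw [← Nat.card_eq_finsetCard]
  refine Nat.card_le_card_of_injective
    (fun a : f.range => ⟨(a : K ≃ₐ[ZMod p] K), by
      obtain ⟨h, hh⟩ := a.2
      simp [← hh, hH h]⟩) ?_
  intro a b h
  exact Subtype.ext (congrArg Subtype.val h : _)

theorem eq_one_of_pow_prime_pow [CharP K p] {x : K} {a : ℕ} (h : x ^ p ^ a = 1) : x = 1 := by
  have : (x - 1) ^ p ^ a = 0 := by rw [sub_pow_char_pow, h, one_pow, sub_self]
  exact sub_eq_zero.1 (pow_eq_zero_iff (pow_ne_zero _ hp.out.ne_zero) |>.1 this)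

end Cfsg.Agent.LAE65.Normal
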