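import Cfsg.Agent.LAE65.Normal.Action

/-!
A subnormal block in the Baumann subgroup of the group.
-/

set_option autoImplicit false
set_option linter.style.haveILetI false
set_option linter.unusedSectionVars false

open Subgroup Cfsg
open scoped commutatorElement

namespace Cfsg.Agent.LAE65.Normal

open Block

variable {G : Type*} [Group G] [Finite G] {p : ℕ} [hp : Fact p.Prime] {E : Subgroup G}

theorem subnormal_block_in_baumann (hG : centralizer (pCore p G : Set G) ≤ pCore p G)
    (hE : ∃ T : Sylow p G, IsBaumannBlock p (T : Subgroup G) E) (hEs : E.IsSubnormal) :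
    E ≤ baumannSubgroup p G ∧ baumannSubgroup p G ≤ normalizer (E : Set G) ∧
      (∀ T' : Sylow p G, IsBaumannBlock p (T' : Subgroup G) E) ∧
      ∀ F : Subgroup G, (∃ T' : Sylow p G, IsBaumannBlock p (T' : Subgroup G) F) → F ≤ E ∨ ⁅F, E⁆ = ⊥ := by
  obtain ⟨T, hT⟩ := hE
  have hBn : (baumannSubgroup p G).Normal := by
    refine normalizer_eq_top_iff.1 (top_le_iff.1 fun g _ => ?_)
    rw [mem_normalizer_iff_map]
    refine eq_of_le_of_card_ge ?_ (card_map_conj _ g).ge
    rw [baumannSubgroup, Subgroup.map_iSup]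
    exact iSup_le fun S => by
      rw [baumann_map, ← conj_sylow]
      exact le_iSup (fun S : Sylow p G => baumannSubgroupOf p (S : Subgroup G)) (g • S)
  have hle : ∀ S : Sylow p G, baumannSubgroupOf p (S : Subgroup G) ≤ baumannSubgroup p G := fun S =>
    le_iSup (fun S : Sylow p G => baumannSubgroupOf p (S : Subgroup G)) S
  have hin : ∀ {S : Sylow p G} {H : Subgroup G}, IsBaumannBlock p (S : Subgroup G) H →
      H ≤ baumannSubgroup p G := fun {S H} hH => by
    calc H = ⁅H, baumannSubgroupOf p (S : Subgroup G)⁆ := hH.2.1.symm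
      _ ≤ ⁅H, baumannSubgroup p G⁆ := commutator_mono le_rfl (hle S)
      _ ≤ _ := commutator_le_right _ _
  have hBN : baumannSubgroup p G ≤ normalizer (E : Set G) :=
    iSup_le fun S => baumann_le_normalizer hG hT hEs S
  refine ⟨hin hT, hBN, fun T' => isBaumannBlock_all hG hT hEs T', fun F ⟨S, hS⟩ => ?_⟩
  have hEU := isBaumannBlock_all hG hT hEs S
  have hFN : F ≤ normalizer (E : Set G) := (hin hS).trans hBN
  have hB := baumann_le_normalizer hG hT hEs S
  by_cases hXF : ⁅⁅omegaOneCenter p (pCore p G), E⁆, F⁆ = ⊥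
  · right
    rw [commutator_comm]
    exact commute_of_centralizes hG hEU hEs hS hFN hB hXF
  · exact Or.inl (le_of_moves hG hEU hEs hS hFN hB hXF (le_sup_centralizer hG hEU hEs hS hFN))

end Cfsg.Agent.LAE65.Normal
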