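import Cfsg.Agent.LAE65.Normal.Family
import Cfsg.Agent.LAE65.Normal.Field
import Cfsg.Agent.LAE62.ExcQuad

/-!
The Baumann subgroup acts linearly on the plane of a block of `SL₂` type.
-/

set_option autoImplicit false
set_option linter.style.haveILetI false
set_option linter.unusedSectionVars false
set_option maxHeartbeats 800000

open Subgroup Cfsg
open scoped commutatorElement MatrixGroups Pointwise
open Cfsg.Agent.LAE62 (act act_apply act_smul act_add act_mul act_one)

namespace Cfsg.Agent.LAE65.Normal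

open Block

variable {G : Type*} [Group G] [Finite G] {p : ℕ} [hp : Fact p.Prime] {E : Subgroup G}
  {U : Sylow p G} {K : Type} [Field K]

/-- `[V, E]`. -/
local notation "𝐗" E => ⁅omegaOneCenter p (pCore p G), (E : Subgroup G)⁆

/-- Coordinates of `[V, E]` modulo `C(E)` in the natural plane. -/
structure Plane (p : ℕ) (E : Subgroup G) (K : Type) [Field K] where
  crd : G → Fin 2 → K
  crd_mul : ∀ {a b}, a ∈ ⁅omegaOneCenter p (pCore p G), E⁆ → b ∈ ⁅omegaOneCenter p (pCore p G), E⁆ →
    crd (a * b) = crd a + crd b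
  crd_surj : ∀ v, ∃ a ∈ ⁅omegaOneCenter p (pCore p G), E⁆, crd a = v
  crd_ker : ∀ {a}, a ∈ ⁅omegaOneCenter p (pCore p G), E⁆ → (crd a = 0 ↔ a ∈ centralizer (E : Set G))
  realize : ∀ M : SL(2, K), ∃ e ∈ E, ∀ x ∈ ⁅omegaOneCenter p (pCore p G), E⁆,
    crd (e * x * e⁻¹) = act M (crd x)
  matE : ∀ e ∈ E, ∃ M : SL(2, K), ∀ x ∈ ⁅omegaOneCenter p (pCore p G), E⁆,
    crd (e * x * e⁻¹) = act M (crd x)

variable (hG : centralizer (pCore p G : Set G) ≤ pCore p G)
  (hE : IsBaumannBlock p (U : Subgroup G) E) (hEs : E.IsSubnormal)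

namespace Plane

variable (D : Plane p E K)

include D in
/-- Change of basis. -/
theorem exists_basis {x₀ : G} (hx : x₀ ∈ (𝐗 E)) (hxc : x₀ ∉ centralizer (E : Set G)) :
    ∃ D' : Plane p E K, D'.crd x₀ = ![1, 0] := by
  obtain ⟨M₀, hM₀⟩ := exists_to_first (v := D.crd x₀) fun h => hxc ((D.crd_ker hx).1 h)
  refine ⟨
    { crd := fun a => act M₀ (D.crd a)
      crd_mul := fun ha hb => by rw [D.crd_mul ha hb, act_add]
      crd_surj := fun v => by
        obtain ⟨a, ha, h⟩ := D.crd_surj (act M₀⁻¹ v)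
        exact ⟨a, ha, by rw [h]; simp⟩
      crd_ker := fun {a} ha => by
        rw [← D.crd_ker ha]
        constructor
        · intro h
          have := congrArg (act M₀⁻¹) h
          rw [LAE62.act_inv_act] at this
          rw [this]; simp [act]
        · intro h; rw [h]; simp [act]
      realize := fun M => by
        obtain ⟨e, he, h⟩ := D.realize (M₀⁻¹ * M * M₀)
        refine ⟨e, he, fun x hx => ?_⟩
        rw [h x hx, ← act_mul, ← act_mul]
        congr 1
        group
      matE := fun e he => by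
        obtain ⟨M, h⟩ := D.matE e he
        refine ⟨M₀ * M * M₀⁻¹, fun x hx => ?_⟩
        rw [h x hx, ← act_mul, ← act_mul]
        congr 1
        group }, hM₀⟩

/-- A chosen preimage. -/
noncomputable def sec (v : Fin 2 → K) : G := (D.crd_surj v).choose

theorem sec_mem (v : Fin 2 → K) : D.sec v ∈ (𝐗 E) := (D.crd_surj v).choose_spec.1

theorem crd_sec (v : Fin 2 → K) : D.crd (D.sec v) = v := (D.crd_surj v).choose_spec.2

/-- The action on the plane. -/
noncomputable def lin (g : G) (v : Fin 2 → K) : Fin 2 → K := D.crd (g * D.sec v * g⁻¹)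

theorem crd_one : D.crd 1 = 0 := (D.crd_ker (one_mem _)).2 (one_mem _)

theorem crd_inv {a : G} (ha : a ∈ (𝐗 E)) : D.crd a⁻¹ = -D.crd a := by
  have h := D.crd_mul (inv_mem ha) ha
  rw [inv_mul_cancel, D.crd_one] at h
  exact eq_neg_of_add_eq_zero_left h.symm

theorem xconj {g x : G} (hg : g ∈ normalizer (E : Set G)) (hx : x ∈ (𝐗 E)) :
    g * x * g⁻¹ ∈ (𝐗 E) := by
  have h : g ∈ normalizer ((𝐗 E : Subgroup G) : Set G) := by
    rw [mem_normalizer_iff_map, module_map, mem_normalizer_iff_map.1 hg]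
  exact (mem_normalizer_iff.1 h x).1 hx

theorem crd_conj {g x : G} (hg : g ∈ normalizer (E : Set G)) (hx : x ∈ (𝐗 E)) :
    D.crd (g * x * g⁻¹) = D.lin g (D.crd x) := by
  set y := D.sec (D.crd x) with hy
  have hyX := D.sec_mem (D.crd x)
  have hk : x * y⁻¹ ∈ centralizer (E : Set G) := by
    rw [← D.crd_ker (mul_mem hx (inv_mem hyX)), D.crd_mul hx (inv_mem hyX), D.crd_inv hyX, D.crd_sec,
      add_neg_cancel]
  have hk' : g * x * g⁻¹ * (g * y * g⁻¹)⁻¹ ∈ centralizer (E : Set G) := by
    have := (mem_normalizer_iff.1 (LocalEven64.le_normalizer_centralizer le_rfl hg) _).1 hk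
    rwa [show g * (x * y⁻¹) * g⁻¹ = g * x * g⁻¹ * (g * y * g⁻¹)⁻¹ by group] at this
  have h1 := xconj hg hx
  have h2 := xconj hg hyX
  rw [← D.crd_ker (mul_mem h1 (inv_mem h2)), D.crd_mul h1 (inv_mem h2), D.crd_inv h2,
    ← sub_eq_add_neg, sub_eq_zero] at hk'
  exact hk'

theorem lin_add {g : G} (hg : g ∈ normalizer (E : Set G)) (v w : Fin 2 → K) :
    D.lin g (v + w) = D.lin g v + D.lin g w := by
  have h := D.crd_conj hg (mul_mem (D.sec_mem v) (D.sec_mem w))
  rw [D.crd_mul (D.sec_mem v) (D.sec_mem w), D.crd_sec, D.crd_sec] at h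
  rw [← h, show g * (D.sec v * D.sec w) * g⁻¹ = g * D.sec v * g⁻¹ * (g * D.sec w * g⁻¹) by group,
    D.crd_mul (xconj hg (D.sec_mem v)) (xconj hg (D.sec_mem w))]
  rfl

theorem lin_mul {g h : G} (hg : g ∈ normalizer (E : Set G)) (hh : h ∈ normalizer (E : Set G))
    (v : Fin 2 → K) : D.lin (g * h) v = D.lin g (D.lin h v) := by
  rw [lin, show g * h * D.sec v * (g * h)⁻¹ = g * (h * D.sec v * h⁻¹) * g⁻¹ by group,
    D.crd_conj hg (xconj hh (D.sec_mem v))]
  rfl

theorem lin_one (v : Fin 2 → K) : D.lin 1 v = v := by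
  rw [lin, one_mul, inv_one, mul_one, D.crd_sec]

/-- The action as an additive automorphism. -/
noncomputable def linEquiv {g : G} (hg : g ∈ normalizer (E : Set G)) : (Fin 2 → K) ≃+ (Fin 2 → K) where
  toFun := D.lin g
  invFun := D.lin g⁻¹
  left_inv v := by rw [← D.lin_mul (inv_mem hg) hg, inv_mul_cancel, D.lin_one]
  right_inv v := by rw [← D.lin_mul hg (inv_mem hg), mul_inv_cancel, D.lin_one]
  map_add' := D.lin_add hg

theorem semilinear {g : G} (hg : g ∈ normalizer (E : Set G)) (c : K) :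
    ∃ c' : K, ∀ v, D.lin g (c • v) = c' • D.lin g v := by
  refine semilinear_of_normalizes (D.linEquiv hg) (fun M => ?_) c
  obtain ⟨e, he, hM⟩ := D.realize M
  have he' : g⁻¹ * e * g ∈ E := by
    simpa using (mem_normalizer_iff.1 (inv_mem hg) e).1 he
  obtain ⟨M', hM'⟩ := D.matE _ he'
  refine ⟨M', fun v => ?_⟩
  show D.lin g (act M' v) = act M (D.lin g v)
  have h1 := hM' _ (D.sec_mem v)
  rw [D.crd_sec] at h1
  rw [← h1, ← D.crd_conj hg (xconj (le_normalizer he') (D.sec_mem v)),
    show g * (g⁻¹ * e * g * D.sec v * (g⁻¹ * e * g)⁻¹) * g⁻¹ = e * (g * D.sec v * g⁻¹) * e⁻¹ by group,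
    hM _ (xconj hg (D.sec_mem v))]
  rfl

/-- The field map of an element fixing the first basis vector. -/
noncomputable def fld (g : G) (c : K) : K := D.lin g ![c, 0] 0

/-- The image of the second basis vector. -/
noncomputable def img (g : G) : Fin 2 → K := D.lin g ![0, 1]

variable {g h : G}

theorem lin_line (hg : g ∈ normalizer (E : Set G)) (hge : D.lin g ![1, 0] = ![1, 0]) (c : K) :
    D.lin g ![c, 0] = ![D.fld g c, 0] ∧ ∀ v, D.lin g (c • v) = D.fld g c • D.lin g v := by
  obtain ⟨c', hc'⟩ := D.semilinear hg c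
  have e : D.lin g ![c, 0] = ![c', 0] := by
    have := hc' ![1, 0]
    rw [hge] at this
    simpa using this
  have : D.fld g c = c' := by rw [fld, e]; rfl
  exact ⟨this.symm ▸ e, this.symm ▸ hc'⟩

/-- The field map is a ring endomorphism. -/
noncomputable def fldHom (hg : g ∈ normalizer (E : Set G)) (hge : D.lin g ![1, 0] = ![1, 0]) : K →+* K where
  toFun := D.fld g
  map_one' := by show D.lin g ![1, 0] 0 = 1; rw [hge]; rfl
  map_mul' c d := by
    show D.lin g ![c * d, 0] 0 = _
    rw [show ![c * d, 0] = c • (![d, 0] : Fin 2 → K) by simp, (D.lin_line hg hge c).2,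
      (D.lin_line hg hge d).1]
    simp
  map_zero' := by
    show D.lin g ![0, 0] 0 = 0
    rw [show (![0, 0] : Fin 2 → K) = 0 by simp]
    show D.linEquiv hg 0 0 = 0
    rw [map_zero]; rfl
  map_add' c d := by
    show D.lin g ![c + d, 0] 0 = _
    rw [show ![c + d, 0] = (![c, 0] + ![d, 0] : Fin 2 → K) by simp, D.lin_add hg]
    rfl

theorem lin_eq (hg : g ∈ normalizer (E : Set G)) (hge : D.lin g ![1, 0] = ![1, 0]) (v : Fin 2 → K) :
    D.lin g v = D.fld g (v 0) • ![1, 0] + D.fld g (v 1) • D.img g := by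
  conv_lhs => rw [show v = v 0 • ![1, 0] + v 1 • ![0, 1] by funext i; fin_cases i <;> simp, D.lin_add hg,
    (D.lin_line hg hge (v 0)).2, (D.lin_line hg hge (v 1)).2, hge]
  rfl

theorem fld_mul (hg : g ∈ normalizer (E : Set G)) (hge : D.lin g ![1, 0] = ![1, 0])
    (hh : h ∈ normalizer (E : Set G)) (hhe : D.lin h ![1, 0] = ![1, 0]) (c : K) :
    D.fld (g * h) c = D.fld g (D.fld h c) := by
  show D.lin (g * h) ![c, 0] 0 = D.lin g ![D.fld h c, 0] 0
  rw [D.lin_mul hg hh, (D.lin_line hh hhe c).1]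

theorem img_one_ne (hg : g ∈ normalizer (E : Set G)) (hge : D.lin g ![1, 0] = ![1, 0]) :
    D.img g 1 ≠ 0 := by
  intro h0
  obtain ⟨v, hv⟩ := (D.linEquiv hg).surjective ![0, 1]
  have : D.lin g v = ![0, 1] := hv
  rw [D.lin_eq hg hge] at this
  have := congrFun this 1
  simp [h0] at this

theorem img_one_eq [CharP K p] (hg : g ∈ normalizer (E : Set G)) (hge : D.lin g ![1, 0] = ![1, 0])
    (hf : ∀ c, D.fld g c = c) {a : ℕ} (ha : g ^ p ^ a = 1) : D.img g 1 = 1 := by
  refine eq_one_of_pow_prime_pow (p := p) (a := a) ?_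
  have : ∀ n : ℕ, D.lin (g ^ n) ![0, 1] 1 = D.img g 1 ^ n := by
    intro n
    induction n with
    | zero => rw [pow_zero, D.lin_one, pow_zero]; rfl
    | succ n ih =>
      rw [pow_succ', D.lin_mul hg (pow_mem hg n), D.lin_eq hg hge, hf, hf, pow_succ]
      simp [ih]
  rw [← this, ha, D.lin_one]; rfl

/-- An element acting trivially on the plane centralises `[V, E]`. -/
theorem centralizes (hG : centralizer (pCore p G : Set G) ≤ pCore p G)
    (hE : IsBaumannBlock p (U : Subgroup G) E) (hEs : E.IsSubnormal)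
    (hg : g ∈ normalizer (E : Set G)) (h : ∀ x ∈ (𝐗 E), D.crd (g * x * g⁻¹) = D.crd x) :
    g ∈ centralizer ((𝐗 E : Subgroup G) : Set G) := by
  refine centralizes_of_mod hG hE hEs hg fun x hx => ?_
  have h1 := xconj hg hx
  rw [commutatorElement_def, ← D.crd_ker (mul_mem h1 (inv_mem hx)), D.crd_mul h1 (inv_mem hx),
    D.crd_inv hx, h x hx, add_neg_cancel]

/-- The preimage of the first axis. -/
def axis : Subgroup G where
  carrier := {x | x ∈ (𝐗 E) ∧ D.crd x 1 = 0}
  one_mem' := ⟨one_mem _, by rw [D.crd_one]; rfl⟩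
  mul_mem' := fun {a b} ha hb => ⟨mul_mem ha.1 hb.1, by
    rw [D.crd_mul ha.1 hb.1, Pi.add_apply, ha.2, hb.2, add_zero]⟩
  inv_mem' := fun {a} ha => ⟨inv_mem ha.1, by rw [D.crd_inv ha.1, Pi.neg_apply, ha.2, neg_zero]⟩

/-- The coordinate map. -/
noncomputable def crdHom : ↥(𝐗 E) →* Multiplicative (Fin 2 → K) where
  toFun x := Multiplicative.ofAdd (D.crd x)
  map_one' := by rw [Subgroup.coe_one, D.crd_one]; rfl
  map_mul' x y := by rw [Subgroup.coe_mul, D.crd_mul x.2 y.2]; rfl

end Plane

theorem card_le_mul_ker {A : Type*} [Group A] [Finite A] {M : Type*} [Group M] (f : A →* M) {m : ℕ}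
    (h : Nat.card f.range ≤ m) : Nat.card A ≤ m * Nat.card f.ker := by
  rw [Subgroup.card_eq_card_quotient_mul_card_subgroup f.ker,
    Nat.card_congr (QuotientGroup.quotientKerEquivRange f).toEquiv]
  exact Nat.mul_le_mul h le_rfl

theorem card_eq_range_mul {A : Type*} [Group A] [Finite A] {M : Type*} [Group M] (f : A →* M) :
    Nat.card A = Nat.card f.range * Nat.card f.ker := by
  rw [Subgroup.card_eq_card_quotient_mul_card_subgroup f.ker,
    Nat.card_congr (QuotientGroup.quotientKerEquivRange f).toEquiv]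

include hG hE hEs

/-- A maximal elementary abelian subgroup centralises the axis of its fixed point. -/
theorem centralizes_axis [Fintype K] [CharP K p] (D : Plane p E K) {x₀ : G} (hx₀ : x₀ ∈ (𝐗 E))
    (hbase : D.crd x₀ = ![1, 0])
    (hfix : ∀ t ∈ (U : Subgroup G), t ∈ normalizer (E : Set G) → t * x₀ * t⁻¹ = x₀)
    {A : Subgroup G} (hA : Thompson.IsMaxEAIn p A (U : Subgroup G)) :
    D.axis ≤ centralizer (A : Set G) := by
  classical
  letI : Algebra (ZMod p) K := ZMod.algebra K p
  have hAN : A ≤ normalizer (E : Set G) := maxEA_le_normalizer hG hE hEs hA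
  have hAU : A ≤ (U : Subgroup G) := hA.1
  have hmax := Thompson.isMaxEAIn_sylow_iff U hA
  have hAc : ∀ {a b}, a ∈ A → b ∈ A → a * b = b * a := fun ha hb => Thompson.elemAb_comm hmax.1.1 ha hb
  set X := (𝐗 E) with hX
  have hfirst : ∀ {a}, a ∈ A → D.lin a ![1, 0] = ![1, 0] := fun {a} ha => by
    rw [← hbase, ← D.crd_conj (hAN ha) hx₀, hfix a (hAU ha) (hAN ha)]
  set C := A ⊓ centralizer (X : Set G) with hC
  have hlin1 : ∀ {a}, a ∈ A → (∀ c, D.fld a c = c) → D.img a = ![0, 1] → a ∈ C := by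
    intro a ha hf hi
    refine ⟨ha, D.centralizes hG hE hEs (hAN ha) fun x hx => ?_⟩
    rw [D.crd_conj (hAN ha) hx, D.lin_eq (hAN ha) (hfirst ha), hf, hf, hi]
    funext i; fin_cases i <;> simp
  have hC1 : ∀ {a}, a ∈ C → ∀ v, D.lin a v = v := fun {a} ha v => by
    show D.crd (a * D.sec v * a⁻¹) = v
    rw [← mem_centralizer_iff.1 ha.2 _ (D.sec_mem v), mul_inv_cancel_right, D.crd_sec]
  have hXel : IsElementaryAbelian p X :=
    Thompson.isElementaryAbelian_of_le (isElementaryAbelian_omegaOneCenter _) (moduleFacts hG hE).le_v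
  -- the fundamental inequality
  have hineq : Nat.card C * Nat.card X ≤ Nat.card A * Nat.card ↥(X ⊓ centralizer (A : Set G)) := by
    have := (LAE62.bestOffender_of_max' hXel hmax).1 C inf_le_left
    rwa [inf_eq_left.2 (le_centralizer_iff.1 (inf_le_right : C ≤ centralizer (X : Set G)))] at this
  intro x hx
  by_contra hxA
  have hAX : ¬ A ≤ centralizer (X : Set G) := fun h => hxA (le_centralizer_iff.1 h hx.1)
  set k := Nat.card K with hk
  -- elements with trivial field map
  let A0 : Subgroup ↥A :=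
    { carrier := {a | ∀ c, D.fld (a : G) c = c}
      one_mem' := fun c => by
        show D.lin ((1 : ↥A) : G) ![c, 0] 0 = c
        rw [Subgroup.coe_one, D.lin_one]; rfl
      mul_mem' := fun {a b} ha hb c => by
        rw [Subgroup.coe_mul, D.fld_mul (hAN a.2) (hfirst a.2) (hAN b.2) (hfirst b.2), hb, ha]
      inv_mem' := fun {a} ha c => by
        have := D.fld_mul (hAN (a⁻¹).2) (hfirst (a⁻¹).2) (hAN a.2) (hfirst a.2) c
        rw [ha, ← Subgroup.coe_mul, inv_mul_cancel, Subgroup.coe_one] at this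
        rw [← this]
        show D.lin 1 ![c, 0] 0 = c
        rw [D.lin_one]; rfl }
  have himg : ∀ a : ↥A, a ∈ A0 → D.img (a : G) 1 = 1 := fun a ha =>
    D.img_one_eq (p := p) (hAN a.2) (hfirst a.2) ha (a := 1) (by rw [pow_one]; exact hmax.1.2 _ a.2)
  let sh : ↥A0 →* Multiplicative K :=
    { toFun := fun a => Multiplicative.ofAdd (D.img ((a : ↥A) : G) 0)
      map_one' := by
        show Multiplicative.ofAdd (D.lin ((((1 : ↥A0)) : ↥A) : G) ![0, 1] 0) = 1
        rw [Subgroup.coe_one, Subgroup.coe_one, D.lin_one]; rfl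
      map_mul' := fun a b => by
        show Multiplicative.ofAdd (D.lin ((((a * b : ↥A0)) : ↥A) : G) ![0, 1] 0) = _
        rw [Subgroup.coe_mul, Subgroup.coe_mul, D.lin_mul (hAN (a : ↥A).2) (hAN (b : ↥A).2),
          D.lin_eq (hAN (a : ↥A).2) (hfirst (a : ↥A).2), a.2, a.2]
        rw [← ofAdd_add]
        congr 1
        have := himg _ b.2
        simp [Plane.img] at this ⊢
        rw [this, one_mul, add_comm] }
  have hsker : Nat.card sh.ker ≤ Nat.card C := by
    refine Nat.card_le_card_of_injective (fun a => (⟨(((a : ↥A0) : ↥A) : G), hlin1 ((a : ↥A0) : ↥A).2 (a : ↥A0).2 ?_⟩ : C)) ?_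
    · funext i
      fin_cases i
      · exact ofAdd_eq_one.1 (MonoidHom.mem_ker.1 a.2)
      · exact himg _ (a : ↥A0).2
    · intro a b h
      exact Subtype.ext (Subtype.ext (Subtype.ext (congrArg (fun z : C => (z : G)) h)))
  have hpow : ∀ a : ↥A, a ^ p = 1 := fun a => Subtype.ext (by simpa using hmax.1.2 _ a.2)
  have hψ : Nat.card X = Nat.card (Fin 2 → K) * Nat.card D.crdHom.ker := by
    rw [card_eq_range_mul D.crdHom, MonoidHom.range_eq_top.2 fun v => ?_, Subgroup.card_top]
    · rfl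
    · obtain ⟨a, ha, h⟩ := D.crd_surj v.toAdd
      exact ⟨⟨a, ha⟩, by show Multiplicative.ofAdd (D.crd a) = v; rw [h]; rfl⟩
  by_cases hall : A0 = ⊤
  · -- linear case
    have hA0 : ∀ a : ↥A, a ∈ A0 := fun a => hall ▸ mem_top a
    have hcard : Nat.card A ≤ k * Nat.card C := by
      rw [← Subgroup.card_top (G := ↥A), ← hall]
      refine (card_le_mul_ker sh (m := k) ?_).trans (Nat.mul_le_mul le_rfl hsker)
      exact (Finite.card_subtype_le _).trans (le_of_eq (Nat.card_congr Multiplicative.toAdd))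
    obtain ⟨a₀, ha₀, ha₀X⟩ := SetLike.not_le_iff_exists.1 hAX
    have hs : D.img a₀ 0 ≠ 0 := fun h => ha₀X (hlin1 ha₀ (hA0 ⟨a₀, ha₀⟩) (by
      funext i
      fin_cases i
      · exact h
      · exact himg ⟨a₀, ha₀⟩ (hA0 _))).2
    have hle : X ⊓ centralizer (A : Set G) ≤ D.axis := by
      rintro y ⟨hy, hyA⟩
      refine ⟨hy, ?_⟩
      have h1 := D.crd_conj (hAN ha₀) hy
      rw [mem_centralizer_iff.1 hyA a₀ ha₀, mul_inv_cancel_right, D.lin_eq (hAN ha₀) (hfirst ha₀),
        hA0 ⟨a₀, ha₀⟩, hA0 ⟨a₀, ha₀⟩] at h1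
      have := congrFun h1 0
      simp at this
      exact this.resolve_right hs
    have hax : Nat.card X = k * Nat.card D.axis := by
      let χ : ↥X →* Multiplicative K :=
        { toFun := fun y => Multiplicative.ofAdd (D.crd y 1)
          map_one' := by rw [Subgroup.coe_one, D.crd_one]; rfl
          map_mul' := fun y z => by rw [Subgroup.coe_mul, D.crd_mul y.2 z.2]; rfl }
      rw [card_eq_range_mul χ, MonoidHom.range_eq_top.2 fun v => ?_, Subgroup.card_top,
        Nat.card_congr Multiplicative.toAdd, ← hk]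
      · congr 1
        refine Nat.card_congr ⟨fun y => ⟨((y : ↥X) : G), (y : ↥X).2, ofAdd_eq_one.1 (MonoidHom.mem_ker.1 y.2)⟩,
          fun y => ⟨⟨y, y.2.1⟩, MonoidHom.mem_ker.2 (ofAdd_eq_one.2 y.2.2)⟩, fun y => rfl, fun y => rfl⟩
      · obtain ⟨a, ha, h⟩ := D.crd_surj ![0, v.toAdd]
        exact ⟨⟨a, ha⟩, by show Multiplicative.ofAdd (D.crd a 1) = v; rw [h]; rfl⟩
    have heq : X ⊓ centralizer (A : Set G) = D.axis := by
      refine eq_of_le_of_card_ge hle ?_
      rw [hax] at hineq
      have h2 := hineq.trans (Nat.mul_le_mul hcard le_rfl)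
      have hpos : 0 < Nat.card C * k := Nat.mul_pos Nat.card_pos Nat.card_pos
      refine Nat.le_of_mul_le_mul_left (le_trans (le_of_eq (by ring)) (h2.trans (le_of_eq (by ring)))) hpos
    exact hxA (heq.ge hx).2
  · -- a nonlinear element
    obtain ⟨a₁, ha₁⟩ : ∃ a : ↥A, a ∉ A0 := by
      by_contra h
      push Not at h
      exact hall (eq_top_iff.2 fun a _ => h a)
    let σ := D.fldHom (hAN a₁.2) (hfirst a₁.2)
    have hσ : ∃ c, σ c ≠ c := not_forall.1 ha₁
    set k₁ := Nat.card {z : K // σ z = z} with hk₁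
    have hk1 : k₁ * k₁ ≤ k := card_fixed_sq_le σ hσ
    have hpk : p ≤ k₁ := prime_le_card_fixed σ
    -- the automorphisms
    let au : ↥A →* (K ≃ₐ[ZMod p] K) :=
      { toFun := fun a => AlgEquiv.ofBijective
          { D.fldHom (hAN a.2) (hfirst a.2) with
            commutes' := fun r => RingHom.congr_fun (Subsingleton.elim
              ((D.fldHom (hAN a.2) (hfirst a.2)).comp (algebraMap (ZMod p) K)) (algebraMap (ZMod p) K)) r }
          (Finite.injective_iff_bijective.1 (D.fldHom (hAN a.2) (hfirst a.2)).injective)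
        map_one' := AlgEquiv.ext fun c => by
          show D.lin ((1 : ↥A) : G) ![c, 0] 0 = c
          rw [Subgroup.coe_one, D.lin_one]; rfl
        map_mul' := fun a b => AlgEquiv.ext fun c =>
          D.fld_mul (hAN a.2) (hfirst a.2) (hAN b.2) (hfirst b.2) c }
    have hauker : au.ker = A0 := by
      ext a
      exact ⟨fun h c => AlgEquiv.congr_fun (MonoidHom.mem_ker.1 h) c,
        fun h => MonoidHom.mem_ker.2 (AlgEquiv.ext h)⟩
    have hA0card : Nat.card A ≤ p * Nat.card A0 := by
      rw [← hauker]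
      exact card_le_mul_ker au (card_aut_le au fun a => by rw [← map_pow, hpow, map_one])
    have hshA : Nat.card A0 ≤ Nat.card sh.range * Nat.card C :=
      (card_eq_range_mul sh).le.trans (Nat.mul_le_mul le_rfl hsker)
    have hshσ : ∀ t : Multiplicative K, t ∈ sh.range → σ t.toAdd * 1 = t.toAdd * D.img (a₁ : G) 1 := by
      rintro _ ⟨a, rfl⟩
      have hcom := congrArg (fun z => D.lin z ![0, 1] 0) (hAc a₁.2 (a : ↥A).2)
      beta_reduce at hcom
      rw [D.lin_mul (hAN a₁.2) (hAN (a : ↥A).2), D.lin_mul (hAN (a : ↥A).2) (hAN a₁.2),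
        D.lin_eq (hAN a₁.2) (hfirst a₁.2) (D.lin ((a : ↥A) : G) ![0, 1]),
        D.lin_eq (hAN (a : ↥A).2) (hfirst (a : ↥A).2) (D.lin (a₁ : G) ![0, 1]), a.2, a.2] at hcom
      have h1 := himg _ a.2
      have hone : D.fld (a₁ : G) 1 = 1 := map_one σ
      simp [Plane.img] at hcom h1
      rw [h1, hone] at hcom
      show D.fld (a₁ : G) (D.img ((a : ↥A) : G) 0) * 1 = D.img ((a : ↥A) : G) 0 * D.img (a₁ : G) 1
      simp only [Plane.img]
      linear_combination hcom
    set S : Set (Fin 2 → K) := {v | ∃ y ∈ X ⊓ centralizer (A : Set G), D.crd y = v} with hS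
    have hSfix : ∀ v ∈ S, ∀ a : ↥A, D.lin (a : G) v = v := by
      rintro _ ⟨y, ⟨hy, hyA⟩, rfl⟩ a
      rw [← D.crd_conj (hAN a.2) hy, mem_centralizer_iff.1 hyA a a.2, mul_inv_cancel_right]
    have hScard : Nat.card ↥(X ⊓ centralizer (A : Set G)) ≤ Nat.card S * Nat.card D.crdHom.ker := by
      let r : ↥(X ⊓ centralizer (A : Set G)) →* ↥X := Subgroup.inclusion inf_le_left
      rw [card_eq_range_mul (D.crdHom.comp r)]
      refine Nat.mul_le_mul ?_ ?_
      · refine Nat.card_le_card_of_injective (fun t => (⟨(t : Multiplicative (Fin 2 → K)).toAdd, ?_⟩ : S)) ?_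
        · obtain ⟨y, hy⟩ := t.2
          exact ⟨y, y.2, congrArg Multiplicative.toAdd hy⟩
        · intro a b h
          exact Subtype.ext (Multiplicative.toAdd.injective (congrArg Subtype.val h :))
      · refine Nat.card_le_card_of_injective (fun y => (⟨r (y : ↥(X ⊓ centralizer (A : Set G))),
          MonoidHom.mem_ker.2 (MonoidHom.mem_ker.1 y.2 :)⟩ : D.crdHom.ker)) ?_
        intro a b h
        exact Subtype.ext (Subgroup.inclusion_injective _ (congrArg Subtype.val h :))
    have hv1 : ∀ v, D.lin (a₁ : G) v = v → D.fld (a₁ : G) (v 0) + D.fld (a₁ : G) (v 1) * D.img (a₁ : G) 0 = v 0 ∧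
        D.fld (a₁ : G) (v 1) * D.img (a₁ : G) 1 = v 1 := by
      intro v hv
      rw [D.lin_eq (hAN a₁.2) (hfirst a₁.2)] at hv
      have h0 := congrFun hv 0
      have h1 := congrFun hv 1
      simp at h0 h1
      exact ⟨h0, h1⟩
    have hkey : Nat.card sh.range * Nat.card S ≤ k₁ * k₁ := by
      by_cases htriv : ∀ t ∈ sh.range, t = 1
      · have h1 : Nat.card sh.range ≤ 1 := Finite.card_le_one_iff_subsingleton.2
          ⟨fun a b => Subtype.ext ((htriv _ a.2).trans (htriv _ b.2).symm)⟩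
        refine (Nat.mul_le_mul h1 le_rfl).trans ?_
        rw [one_mul]
        -- fixed points of `a₁`
        have hd : Nat.card {d : K | D.fld (a₁ : G) d * D.img (a₁ : G) 1 = d} ≤ k₁ :=
          card_eigen_le σ _ (D.img (a₁ : G) 1) 1 (D.img_one_ne (hAN a₁.2) (hfirst a₁.2)) fun z hz =>
            (mul_one z).symm ▸ hz
        let D1 : Set K := {d | D.fld (a₁ : G) d * D.img (a₁ : G) 1 = d}
        let T' := {q : K × K // D.fld (a₁ : G) q.1 + D.fld (a₁ : G) q.2 * D.img (a₁ : G) 0 = q.1 ∧ q.2 ∈ D1}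
        have hST : Nat.card S ≤ Nat.card T' := by
          refine Nat.card_le_card_of_injective (fun v => (⟨((v : Fin 2 → K) 0, (v : Fin 2 → K) 1),
            hv1 _ (hSfix _ v.2 a₁)⟩ : T')) ?_
          intro a b h
          have h' := congrArg Subtype.val h
          exact Subtype.ext (funext fun i => by
            fin_cases i
            · exact congrArg Prod.fst h'
            · exact congrArg Prod.snd h')
        refine hST.trans ?_
        let base : D1 → K := fun d => if h : ∃ c, D.fld (a₁ : G) c + D.fld (a₁ : G) d * D.img (a₁ : G) 0 = c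
          then h.choose else 0
        let j : T' → D1 × {z : K // σ z = z} := fun q => (⟨q.1.2, q.2.2⟩, ⟨q.1.1 - base ⟨q.1.2, q.2.2⟩, by
          have hex : ∃ c, D.fld (a₁ : G) c + D.fld (a₁ : G) q.1.2 * D.img (a₁ : G) 0 = c := ⟨_, q.2.1⟩
          have hb : base ⟨q.1.2, q.2.2⟩ = hex.choose := dif_pos hex
          have := hex.choose_spec
          have h1 := q.2.1
          rw [map_sub, hb]
          show D.fld (a₁ : G) q.1.1 - D.fld (a₁ : G) hex.choose = _
          linear_combination h1 - this⟩)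
        have hj : Function.Injective j := by
          intro a b h
          have h2 : a.1.2 = b.1.2 := congrArg (fun z => (z.1 : K)) h
          have h1 : a.1.1 - base ⟨a.1.2, a.2.2⟩ = b.1.1 - base ⟨b.1.2, b.2.2⟩ :=
            congrArg (fun z => (z.2 : K)) h
          have hb : base ⟨a.1.2, a.2.2⟩ = base ⟨b.1.2, b.2.2⟩ := congrArg base (Subtype.ext h2)
          rw [hb, sub_left_inj] at h1
          exact Subtype.ext (Prod.ext h1 h2)
        refine (Nat.card_le_card_of_injective j hj).trans ?_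
        rw [Nat.card_prod]
        exact Nat.mul_le_mul hd le_rfl
      · push Not at htriv
        obtain ⟨_, ⟨a₀, rfl⟩, hne⟩ := htriv
        refine Nat.mul_le_mul ?_ ?_
        · refine le_trans ?_ (card_eigen_le σ {z | ∃ t ∈ sh.range, Multiplicative.toAdd t = z} 1
            (D.img (a₁ : G) 1) one_ne_zero (by rintro _ ⟨t, ht, rfl⟩; exact hshσ t ht))
          refine Nat.card_le_card_of_injective (fun t => ⟨_, (t : Multiplicative K), t.2, rfl⟩) ?_
          intro a b h
          exact Subtype.ext (Multiplicative.toAdd.injective (congrArg Subtype.val h :))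
        · have hd0 : ∀ v ∈ S, v 1 = 0 := by
            intro v hv
            have h := hSfix v hv a₀.1
            rw [D.lin_eq (hAN (a₀ : ↥A).2) (hfirst (a₀ : ↥A).2), a₀.2, a₀.2] at h
            have := congrFun h 0
            simp at this
            exact this.resolve_right fun h0 => hne (ofAdd_eq_one.2 h0)
          refine Nat.card_le_card_of_injective (fun v => (⟨(v : Fin 2 → K) 0, ?_⟩ : {z : K // σ z = z})) ?_
          · have := (hv1 _ (hSfix _ v.2 a₁)).1
            rw [hd0 _ v.2] at this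
            have h0 : D.fld (a₁ : G) 0 = 0 := map_zero σ
            rw [h0, zero_mul, add_zero] at this
            exact this
          · intro a b h
            exact Subtype.ext (funext fun i => by
              fin_cases i
              · exact congrArg Subtype.val h
              · exact (hd0 _ a.2).trans (hd0 _ b.2).symm)
    rw [hψ, Nat.card_fun, Nat.card_fin, ← hk] at hineq
    have h2 := hineq.trans (Nat.mul_le_mul (hA0card.trans (Nat.mul_le_mul le_rfl hshA)) hScard)
    have hpos : 0 < Nat.card C * Nat.card D.crdHom.ker := Nat.mul_pos Nat.card_pos Nat.card_pos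
    have h3 : k ^ 2 ≤ p * (Nat.card sh.range * Nat.card S) :=
      Nat.le_of_mul_le_mul_left ((le_of_eq (by ring)).trans (h2.trans (le_of_eq (by ring)))) hpos
    have h4 : k ^ 2 ≤ p * (k₁ * k₁) := h3.trans (Nat.mul_le_mul le_rfl hkey)
    have hp2 := hp.out.two_le
    have h5 : k * k ≤ p * k := (sq k).symm.le.trans (h4.trans (Nat.mul_le_mul le_rfl hk1))
    have h6 : k ≤ p := Nat.le_of_mul_le_mul_right h5 Nat.card_pos
    have h7 : p * p ≤ k := (Nat.mul_le_mul hpk hpk).trans hk1
    nlinarith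

/-- The Baumann subgroup acts linearly on the plane. -/
theorem baumann_le_sup [Fintype K] [CharP K p] (D : Plane p E K) :
    baumannSubgroupOf p (U : Subgroup G)
      ≤ E ⊔ (centralizer ((𝐗 E : Subgroup G) : Set G) ⊓ normalizer (E : Set G)) := by
  obtain ⟨x₀, hx₀, hxc, hfix⟩ := exists_fixed_module hG hE hEs U
  obtain ⟨D, hbase⟩ := D.exists_basis hx₀ hxc
  intro b hb
  have hbN := baumann_le_normalizer hG hE hEs U hb
  have hbU : b ∈ (U : Subgroup G) := baumann_le _ hb
  have hfirst : D.lin b ![1, 0] = ![1, 0] := by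
    rw [← hbase, ← D.crd_conj hbN hx₀, hfix b hbU hbN]
  have hJ := thompson_le_normalizer hG hE hEs U
  have hfld : ∀ c, D.fld b c = c := by
    intro c
    obtain ⟨y, hy, hyc⟩ := D.crd_surj ![c, 0]
    have hyA : y ∈ D.axis := ⟨hy, by rw [hyc]; rfl⟩
    have hyJc : y ∈ centralizer (thompsonSubgroupOf p (U : Subgroup G) : Set G) := by
      rw [Thompson.thompsonSubgroupOf_eq]
      refine le_centralizer_iff.1 (sSup_le fun A hA => ?_) hyA
      exact le_centralizer_iff.1 (centralizes_axis hG hE hEs D hx₀ hbase hfix hA)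
    have hyp : y ^ p = 1 := (isElementaryAbelian_omegaOneCenter _).2 y ((moduleFacts hG hE).le_v hy)
    have hyJ : y ∈ thompsonSubgroupOf p (U : Subgroup G) := by
      obtain ⟨A, hA⟩ := Thompson.exists_isMaxEAIn p (U : Subgroup G)
      have hle := Thompson.le_thompsonSubgroupOf hA
      exact hle (Thompson.mem_of_centralizes_max (Thompson.isMaxEAIn_sylow_iff U hA)
        (centralizer_le hle hyJc) hyp)
    have hyZ : y ∈ omegaOne p (centerThompsonOf p (U : Subgroup G)) :=
      Thompson.mem_omegaOne ⟨hyJ, hyJc⟩ hyp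
    have h := D.crd_conj hbN hy
    rw [← mem_centralizer_iff.1 hb.2 y hyZ, mul_inv_cancel_right, hyc] at h
    show D.lin b ![c, 0] 0 = c
    rw [← h]; rfl
  obtain ⟨n, hn⟩ := U.isPGroup' ⟨b, hbU⟩
  have himg := D.img_one_eq (p := p) hbN hfirst hfld (a := n) (by simpa using congrArg Subtype.val hn)
  obtain ⟨e, he, hM⟩ := D.realize (Natural.uMat (D.img b 0))
  have heb : e⁻¹ * b ∈ centralizer ((𝐗 E : Subgroup G) : Set G) ⊓ normalizer (E : Set G) := by
    have hN : e⁻¹ * b ∈ normalizer (E : Set G) := mul_mem (inv_mem (le_normalizer he)) hbN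
    refine ⟨D.centralizes hG hE hEs hN fun x hx => ?_, hN⟩
    have hy := Plane.xconj hN hx
    have h := hM _ hy
    rw [show e * (e⁻¹ * b * x * (e⁻¹ * b)⁻¹) * e⁻¹ = b * x * b⁻¹ by group, D.crd_conj hbN hx,
      D.lin_eq hbN hfirst, hfld, hfld] at h
    have h2 : D.crd x 0 • (![1, 0] : Fin 2 → K) + D.crd x 1 • D.img b
        = act (Natural.uMat (D.img b 0)) (D.crd x) := by
      funext i
      fin_cases i <;> simp [act_apply, Natural.uMat_coe, himg] <;> ring
    rw [h2] at h
    have := congrArg (act (Natural.uMat (D.img b 0))⁻¹) h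
    simpa using this.symm
  have := mul_mem (mem_sup_left (T := centralizer ((𝐗 E : Subgroup G) : Set G) ⊓ normalizer (E : Set G)) he)
    (mem_sup_right (S := E) heb)
  rwa [mul_inv_cancel_left] at this

end Cfsg.Agent.LAE65.Normal
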