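import Cfsg.Agent.LAE65.Block
import Cfsg.Agent.Lib.Thompson.Cores

/-!
Conjugates of Baumann blocks are blocks.
-/

set_option autoImplicit false
set_option linter.style.haveILetI false
set_option linter.unusedSectionVars false

open Subgroup Cfsg
open scoped commutatorElement MatrixGroups

namespace Cfsg.Agent.LAE65.Normal

variable {G : Type*} [Group G] [Finite G] {p : ℕ} [hp : Fact p.Prime]

theorem omegaOneCenter_map (H : Subgroup G) (f : G ≃* G) :
    (omegaOneCenter p H).map f.toMonoidHom = omegaOneCenter p (H.map f.toMonoidHom) := by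
  rw [omegaOneCenter, omegaOneCenter, Thompson.map_omegaOne _ _ f.injective.injOn,
    LocalEven64.map_self_centralizer (f := f.toMonoidHom) f.injective]

theorem pCoreOf_map' (H : Subgroup G) (f : G ≃* G) :
    (pCoreOf p H).map f.toMonoidHom = pCoreOf p (H.map f.toMonoidHom) :=
  LocalEven64.pCoreOf_map (f := f.toMonoidHom) f.injective p H

theorem pResidualOf_map' (H : Subgroup G) (f : G ≃* G) :
    (pResidualOf p H).map f.toMonoidHom = pResidualOf p (H.map f.toMonoidHom) := by
  have h := Thompson.map_pResidual_equiv (p := p) (H.equivMapOfInjective f.toMonoidHom f.injective)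
  rw [pResidualOf, pResidualOf, ← h, map_map, map_map]
  rfl

theorem centralizer_map (H : Subgroup G) (f : G ≃* G) :
    (centralizer (H : Set G)).map f.toMonoidHom = centralizer ((H.map f.toMonoidHom : Subgroup G) : Set G) := by
  ext x
  constructor
  · rintro ⟨y, hy, rfl⟩
    rw [mem_centralizer_iff]
    rintro _ ⟨h, hh, rfl⟩
    simp only [MulEquiv.coe_toMonoidHom]
    rw [← map_mul, ← map_mul, mem_centralizer_iff.1 hy h hh]
  · intro hx
    refine ⟨f.symm x, mem_centralizer_iff.2 fun h hh => f.injective ?_, by simp⟩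
    rw [map_mul, map_mul, MulEquiv.apply_symm_apply]
    exact mem_centralizer_iff.1 hx (f h) ⟨h, hh, rfl⟩

theorem map_mem_iff {H : Subgroup G} {f : G ≃* G} {x : G} : f x ∈ H.map f.toMonoidHom ↔ x ∈ H :=
  ⟨fun ⟨_, hy, h⟩ => f.injective h ▸ hy, fun h => ⟨x, h, rfl⟩⟩

theorem le_normalizer_map {E U : Subgroup G} (f : G ≃* G) (h : E ≤ normalizer (U : Set G)) :
    E.map f.toMonoidHom ≤ normalizer ((U.map f.toMonoidHom : Subgroup G) : Set G) := by
  rintro _ ⟨e, he, rfl⟩
  rw [mem_normalizer_iff]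
  intro y
  constructor
  · rintro ⟨u, hu, rfl⟩
    exact ⟨e * u * e⁻¹, (mem_normalizer_iff.1 (h he) u).1 hu, by simp⟩
  · intro hy
    have h2 : f (e * f.symm y * e⁻¹) = f e * y * (f e)⁻¹ := by simp
    rw [show f.toMonoidHom e * y * (f.toMonoidHom e)⁻¹ = f e * y * (f e)⁻¹ from rfl, ← h2, map_mem_iff,
      ← mem_normalizer_iff.1 (h he)] at hy
    exact ⟨_, hy, by simp⟩

theorem actsAsSL2_map {F : Type} [Field F] {R : Subgroup SL(2, F)} {E U U₀ : Subgroup G} (f : G ≃* G)
    (h : ActsAsSL2OnSection F R E U U₀) :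
    ActsAsSL2OnSection F R (E.map f.toMonoidHom) (U.map f.toMonoidHom) (U₀.map f.toMonoidHom) := by
  obtain ⟨hn, hle, ρ, ψ, hρ, hψ, hker, heq⟩ := h
  let eE := (E.equivMapOfInjective f.toMonoidHom f.injective).symm
  let eU := (U.equivMapOfInjective f.toMonoidHom f.injective).symm
  have hE : ∀ e, f ((eE e : E) : G) = e := fun e =>
    congrArg Subtype.val ((E.equivMapOfInjective f.toMonoidHom f.injective).apply_symm_apply e)
  have hU : ∀ u, f ((eU u : U) : G) = u := fun u =>
    congrArg Subtype.val ((U.equivMapOfInjective f.toMonoidHom f.injective).apply_symm_apply u)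
  refine ⟨le_normalizer_map f hn, map_mono hle, ρ.comp eE.toMonoidHom, ψ.comp eU.toMonoidHom, ?_, ?_, ?_, ?_⟩
  · rw [← hρ, MonoidHom.range_comp, MonoidHom.range_eq_top.2 eE.surjective, MonoidHom.range_eq_map]
  · exact hψ.comp eU.surjective
  · intro u
    rw [← hU u, map_mem_iff]
    exact hker _
  · intro e u
    obtain ⟨w, hw, hw'⟩ := heq (eE e) (eU u)
    refine ⟨eU.symm w, ?_, ?_⟩
    · rw [← hU (eU.symm w), MulEquiv.apply_symm_apply, hw, map_mul, map_mul, map_inv, hE, hU]
    · simp only [MonoidHom.comp_apply, MulEquiv.coe_toMonoidHom, MulEquiv.apply_symm_apply]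
      exact hw'

theorem actsAsPerm_map {n : ℕ} {R : Subgroup (Equiv.Perm (Fin n))} {E U U₀ : Subgroup G} (f : G ≃* G)
    (h : ActsAsOddPermModuleOnSection n R E U U₀) :
    ActsAsOddPermModuleOnSection n R (E.map f.toMonoidHom) (U.map f.toMonoidHom)
      (U₀.map f.toMonoidHom) := by
  obtain ⟨hn, hle, ρ, ψ, hρ, hsum, hψ, hker, heq⟩ := h
  let eE := (E.equivMapOfInjective f.toMonoidHom f.injective).symm
  let eU := (U.equivMapOfInjective f.toMonoidHom f.injective).symm
  have hE : ∀ e, f ((eE e : E) : G) = e := fun e =>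
    congrArg Subtype.val ((E.equivMapOfInjective f.toMonoidHom f.injective).apply_symm_apply e)
  have hU : ∀ u, f ((eU u : U) : G) = u := fun u =>
    congrArg Subtype.val ((U.equivMapOfInjective f.toMonoidHom f.injective).apply_symm_apply u)
  refine ⟨le_normalizer_map f hn, map_mono hle, ρ.comp eE.toMonoidHom, ψ.comp eU.toMonoidHom, ?_,
    fun u => hsum _, ?_, ?_, ?_⟩
  · rw [← hρ, MonoidHom.range_comp, MonoidHom.range_eq_top.2 eE.surjective, MonoidHom.range_eq_map]
  · intro v hv
    obtain ⟨u, hu⟩ := hψ v hv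
    exact ⟨eU.symm u, by
      simp only [MonoidHom.comp_apply, MulEquiv.coe_toMonoidHom, MulEquiv.apply_symm_apply]; exact hu⟩
  · intro u
    rw [← hU u, map_mem_iff]
    exact hker _
  · intro e u
    obtain ⟨w, hw, hw'⟩ := heq (eE e) (eU u)
    refine ⟨eU.symm w, ?_, ?_⟩
    · rw [← hU (eU.symm w), MulEquiv.apply_symm_apply, hw, map_mul, map_mul, map_inv, hE, hU]
    · simp only [MonoidHom.comp_apply, MulEquiv.coe_toMonoidHom, MulEquiv.apply_symm_apply]
      exact hw'

theorem frattini_map' (H : Subgroup G) (f : G ≃* G) :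
    ((frattini ↥H).map H.subtype).map f.toMonoidHom
      = (frattini ↥(H.map f.toMonoidHom)).map (H.map f.toMonoidHom).subtype := by
  let e : ↥H ≃* ↥(H.map f.toMonoidHom) := H.equivMapOfInjective f.toMonoidHom f.injective
  have h : (frattini ↥H).map e.toMonoidHom = frattini ↥(H.map f.toMonoidHom) := by
    refine le_antisymm ?_ ?_
    · exact map_le_iff_le_comap.2 (frattini_le_comap_frattini_of_surjective e.surjective)
    · intro x hx
      exact ⟨e.symm x, frattini_le_comap_frattini_of_surjective (φ := e.symm.toMonoidHom)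
        e.symm.surjective hx, e.apply_symm_apply x⟩
  rw [← h, map_map, map_map]
  rfl

theorem quotient_map (E : Subgroup G) (f : G ≃* G) :
    Nonempty (↥(E.map f.toMonoidHom) ⧸ pCore p ↥(E.map f.toMonoidHom) ≃* ↥E ⧸ pCore p ↥E) :=
  ⟨(QuotientGroup.congr _ _ (E.equivMapOfInjective f.toMonoidHom f.injective)
    (Thompson.map_pCore_equiv _)).symm⟩

/-- Conjugates of blocks are blocks. -/
theorem isBaumannBlock_map {T E : Subgroup G} (h : IsBaumannBlock p T E) (g : G) :
    IsBaumannBlock p (T.map (MulAut.conj g).toMonoidHom) (E.map (MulAut.conj g).toMonoidHom) := by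
  obtain ⟨h1, h2, h3, h4, h5⟩ := h
  set f : G ≃* G := MulAut.conj g with hf
  have hB : (baumannSubgroupOf p T).map f.toMonoidHom = baumannSubgroupOf p (T.map f.toMonoidHom) :=
    Block.baumann_map T g
  have hinj : Function.Injective f.toMonoidHom := f.injective
  have hW : (omegaOneCenter p (pCoreOf p E)).map f.toMonoidHom =
      omegaOneCenter p (pCoreOf p (E.map f.toMonoidHom)) := by
    rw [omegaOneCenter_map, pCoreOf_map']
  have hC : (centralizer (E : Set G)).map f.toMonoidHom =
      centralizer ((E.map f.toMonoidHom : Subgroup G) : Set G) := centralizer_map E f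
  have hZ : (omegaOneCenter p (pCoreOf p E) ⊓ centralizer (E : Set G)).map f.toMonoidHom =
      omegaOneCenter p (pCoreOf p (E.map f.toMonoidHom)) ⊓
        centralizer ((E.map f.toMonoidHom : Subgroup G) : Set G) := by
    rw [map_inf _ _ _ hinj, hW, hC]
  refine ⟨?_, ?_, ?_, ?_, ?_⟩
  · rw [← pResidualOf_map', h1]
  · rw [← hB, ← map_commutator, h2]
  · rw [← pCoreOf_map', ← map_commutator, h3]
  · rw [← omegaOneCenter_map, ← map_commutator, ne_eq, map_eq_bot_iff_of_injective _ hinj]
    exact h4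
  obtain ⟨eq⟩ := quotient_map (p := p) E f
  rcases h5 with ⟨F, hF1, hF2, n, hn, ⟨iso⟩, hact, halt⟩ | ⟨hp2, m, ⟨iso⟩, hact, hq⟩
  · refine Or.inl ⟨F, hF1, hF2, n, hn, ⟨eq.trans iso⟩, ?_, ?_⟩
    · rw [← hW, ← hC, ← map_inf _ _ _ hinj]
      exact actsAsSL2_map f hact
    rcases halt with hq | ⟨h3', hactQ, hder, hfr, hz, hcard, hnq⟩
    · exact Or.inl (by rw [← hW, ← pCoreOf_map', ← hq])
    refine Or.inr ⟨h3', ?_, ?_, ?_, ?_, ?_, ?_⟩
    · rw [← hW, ← pCoreOf_map']
      exact actsAsSL2_map f hactQ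
    · rw [← hZ, ← pCoreOf_map', ← map_commutator, hder]
    · rw [← hZ, ← hfr, frattini_map', pCoreOf_map']
    · rw [← hZ, ← hC, ← map_inf _ _ _ hinj, hz]
    · rw [← hC, ← map_inf _ _ _ hinj, card_map_of_injective hinj, hcard]
    · intro b hb hbW
      rw [← hB] at hb
      obtain ⟨b₀, hb₀, rfl⟩ := hb
      have hb' : b₀ ∉ centralizer (omegaOneCenter p (pCoreOf p E) : Set G) := fun h => hbW (by
        rw [← hW, ← centralizer_map]; exact ⟨b₀, h, rfl⟩)
      intro hle
      refine hnq b₀ hb₀ hb' ?_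
      rw [← hC, ← map_inf _ _ _ hinj, ← pCoreOf_map', ← MonoidHom.map_zpowers f.toMonoidHom,
        ← map_commutator, ← map_commutator] at hle
      exact (map_le_map_iff_of_injective hinj).1 hle
  · refine Or.inr ⟨hp2, m, ⟨eq.trans iso⟩, ?_, by rw [← hW, ← pCoreOf_map', ← hq]⟩
    rw [← hW, ← hC, ← map_inf _ _ _ hinj]
    exact actsAsPerm_map f hact

/-- A block depends on the Sylow subgroup only through its Baumann subgroup and `Ω₁(Z(T))`. -/
theorem isBaumannBlock_congr {T T' E : Subgroup G} (h : IsBaumannBlock p T E)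
    (hB : baumannSubgroupOf p T' = baumannSubgroupOf p T) (hz : ⁅E, omegaOneCenter p T'⁆ ≠ ⊥) :
    IsBaumannBlock p T' E := by
  unfold IsBaumannBlock at h ⊢
  rw [hB]
  exact ⟨h.1, h.2.1, h.2.2.1, hz, h.2.2.2.2⟩

end Cfsg.Agent.LAE65.Normal
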